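import Cfsg.Agent.Lib.Char.TransLinear.AutCard

/-!
The `p`-part of `GL(2a, q)` is small, for a prime `p` different from `q`.
-/

set_option autoImplicit false

namespace CfsgLib.Char.Berger

/-- `∏ (q^i - 1)` for `i = 1, …, n` -/
def qfac (q : ℕ) : ℕ → ℕ
  | 0 => 1
  | n + 1 => (q ^ (n + 1) - 1) * qfac q n

theorem qfac_pos {q : ℕ} (hq : 2 ≤ q) : ∀ n, 0 < qfac q n
  | 0 => Nat.one_pos
  | n + 1 => Nat.mul_pos (Nat.sub_pos_of_lt (Nat.one_lt_pow (by omega) (by omega))) (qfac_pos hq n)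

theorem glCard_eq (q : ℕ) : ∀ n, ∃ j, glCard n q = q ^ j * qfac q n
  | 0 => ⟨0, by simp [glCard, qfac]⟩
  | n + 1 => by
    obtain ⟨j, hj⟩ := glCard_eq q n
    refine ⟨n + j, ?_⟩
    rw [glCard, Finset.prod_range_succ', pow_zero, qfac]
    have h : ∀ i ∈ Finset.range n, q ^ (n + 1) - q ^ (i + 1) = q * (q ^ n - q ^ i) := fun i _ => by
      rw [Nat.mul_sub, pow_succ' q n, pow_succ' q i]
    rw [Finset.prod_congr rfl h, Finset.prod_mul_distrib, Finset.prod_const, Finset.card_range,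
      show (∏ i ∈ Finset.range n, (q ^ n - q ^ i)) = glCard n q from rfl, hj, pow_add]
    ring

theorem pow_add_three (q x y z : ℕ) : q ^ (x + (y + z)) = q ^ x * (q ^ y * q ^ z) := by
  rw [pow_add, pow_add]

theorem qfac_lt {q : ℕ} (hq : 2 ≤ q) : ∀ a, 1 ≤ a → qfac q (2 * a) < q ^ (a * (2 * a + 1)) := by
  have h : ∀ a, qfac q (2 * a) ≤ q ^ (a * (2 * a + 1)) := by
    intro a
    induction a with
    | zero => simp [qfac]
    | succ a ih =>
      rw [show 2 * (a + 1) = 2 * a + 1 + 1 by ring, qfac, qfac,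
        show (a + 1) * (2 * a + 1 + 1 + 1) = (2 * a + 1 + 1) + ((2 * a + 1) + a * (2 * a + 1)) by ring,
        pow_add_three]
      exact Nat.mul_le_mul (Nat.sub_le _ _) (Nat.mul_le_mul (Nat.sub_le _ _) ih)
  intro a ha
  obtain ⟨b, rfl⟩ : ∃ b, a = b + 1 := ⟨a - 1, by omega⟩
  rw [show 2 * (b + 1) = 2 * b + 1 + 1 by ring, qfac, qfac,
    show (b + 1) * (2 * b + 1 + 1 + 1) = (2 * b + 1 + 1) + ((2 * b + 1) + b * (2 * b + 1)) by ring,
    pow_add_three]
  refine Nat.mul_lt_mul_of_lt_of_le (Nat.sub_lt (by positivity) Nat.one_pos)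
    (Nat.mul_le_mul (Nat.sub_le _ _) (h b)) (by positivity)

theorem large_ineq {q a : ℕ} (hq : 2 ≤ q) (ha : 1 ≤ a) (h : 5 ≤ q ∨ (3 ≤ q ∧ 3 ≤ a) ∨ 7 ≤ a) :
    a * (2 * a + 1) + 1 ≤ q ^ a := by
  have h5 : ∀ a, 1 ≤ a → a * (2 * a + 1) + 1 ≤ 5 ^ a := fun a ha => by
    induction a, ha using Nat.le_induction with
    | base => norm_num
    | succ n hn ih => rw [pow_succ]; nlinarith
  have h3 : ∀ a, 3 ≤ a → a * (2 * a + 1) + 1 ≤ 3 ^ a := fun a ha => by
    induction a, ha using Nat.le_induction with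
    | base => norm_num
    | succ n hn ih => rw [pow_succ]; nlinarith
  have h2 : ∀ a, 7 ≤ a → a * (2 * a + 1) + 1 ≤ 2 ^ a := fun a ha => by
    induction a, ha using Nat.le_induction with
    | base => norm_num
    | succ n hn ih => rw [pow_succ]; nlinarith
  rcases h with h | h | h
  · exact (h5 a ha).trans (Nat.pow_le_pow_left h a)
  · exact (h3 a h.2).trans (Nat.pow_le_pow_left h.1 a)
  · exact (h2 a h).trans (Nat.pow_le_pow_left hq a)

theorem small_two : ∀ a < 7, 1 ≤ a → ¬ 3 ^ (2 ^ a) ∣ qfac 2 (2 * a) ∧ ¬ 5 ^ (2 ^ a) ∣ qfac 2 (2 * a) ∧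
    qfac 2 (2 * a) < 7 ^ (2 ^ a) := by
  intro a ha h1
  interval_cases a <;> decide +kernel

theorem small_three : ∀ a < 3, 1 ≤ a → ¬ 2 ^ (2 * (3 ^ a - 1) + 1) ∣ qfac 3 (2 * a) ∧
    qfac 3 (2 * a) < 5 ^ (3 ^ a) := by
  intro a ha h1
  interval_cases a <;> decide +kernel

/-- The `p`-part of `GL(2a, q)` is at most `p ^ (s (q^a - 1))` when `q ∣ p^s - 1`. -/
theorem factorization_glCard_le {p q a s : ℕ} (hp : p.Prime) (hq : q.Prime) (hpq : p ≠ q) (ha : 1 ≤ a)
    (hs : 1 ≤ s) (hdiv : q ∣ p ^ s - 1) : (glCard (2 * a) q).factorization p ≤ s * (q ^ a - 1) := by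
  obtain ⟨j, hj⟩ := glCard_eq q (2 * a)
  have hX := qfac_pos hq.two_le (2 * a)
  have hv : (glCard (2 * a) q).factorization p = (qfac q (2 * a)).factorization p := by
    rw [hj, Nat.factorization_mul (pow_ne_zero _ hq.ne_zero) hX.ne', Finsupp.add_apply,
      Nat.factorization_pow, Finsupp.smul_apply, hq.factorization, Finsupp.single_apply,
      if_neg (Ne.symm hpq), smul_zero, zero_add]
  rw [hv]
  have hd : ∀ k, k ≤ (qfac q (2 * a)).factorization p → p ^ k ∣ qfac q (2 * a) := fun k hk =>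
    (hp.pow_dvd_iff_le_factorization hX.ne').2 hk
  by_contra hlt
  push Not at hlt
  have hdv := hd _ hlt
  have hle := Nat.le_of_dvd hX hdv
  have hqp : q < p ^ s := by
    have h1 : 2 ≤ p ^ s := hp.two_le.trans (Nat.le_self_pow (by omega) p)
    have := Nat.le_of_dvd (by omega) hdiv
    omega
  by_cases hbig : 5 ≤ q ∨ (3 ≤ q ∧ 3 ≤ a) ∨ 7 ≤ a
  · have hl := large_ineq hq.two_le ha hbig
    have h1 : q ^ (a * (2 * a + 1)) ≤ (p ^ s) ^ (q ^ a - 1) :=
      (Nat.pow_le_pow_left hqp.le _).trans (Nat.pow_le_pow_right (pow_pos hp.pos _) (by omega))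
    have h2 := qfac_lt hq.two_le a ha
    rw [← pow_mul] at h1
    rw [pow_succ] at hle
    have h3 : 0 < p ^ (s * (q ^ a - 1)) := pow_pos hp.pos _
    nlinarith [hp.two_le]
  · push Not at hbig
    obtain ⟨hq5, h3, ha7⟩ := hbig
    have hq' : q = 2 ∨ q = 3 := by
      rcases (show q = 0 ∨ q = 1 ∨ q = 2 ∨ q = 3 ∨ q = 4 by omega) with h | h | h | h | h
      · exact absurd h hq.ne_zero
      · exact absurd h hq.one_lt.ne'
      · exact .inl h
      · exact .inr h
      · exact absurd (h ▸ hq) (by norm_num)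
    rcases hq' with rfl | rfl
    · obtain ⟨e3, e5, e7⟩ := small_two a ha7 ha
      have hk : p ^ (2 ^ a) ∣ qfac 2 (2 * a) := (pow_dvd_pow p (by
        have : 1 ≤ 2 ^ a := Nat.one_le_two_pow
        have := Nat.le_mul_of_pos_left (2 ^ a - 1) hs
        omega)).trans hdv
      rcases (show p = 3 ∨ p = 4 ∨ p = 5 ∨ p = 6 ∨ 7 ≤ p by
        have := hp.two_le; omega) with rfl | rfl | rfl | rfl | h
      · exact e3 hk
      · norm_num at hp
      · exact e5 hk
      · norm_num at hp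
      · exact absurd ((Nat.pow_le_pow_left h _).trans (Nat.le_of_dvd hX hk)) (not_le.2 e7)
    · have ha3 : a < 3 := h3 le_rfl
      obtain ⟨e2, e5⟩ := small_three a ha3 ha
      have h31 : 1 ≤ 3 ^ a := Nat.one_le_pow _ _ (by norm_num)
      rcases (show p = 2 ∨ p = 4 ∨ 5 ≤ p by have := hp.two_le; omega) with rfl | rfl | h
      · refine e2 ((pow_dvd_pow 2 ?_).trans hdv)
        have hs2 : 2 ≤ s := by
          by_contra hs'
          obtain rfl : s = 1 := by omega
          norm_num at hdiv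
        have := Nat.mul_le_mul_right (3 ^ a - 1) hs2
        omega
      · norm_num at hp
      · have hk : p ^ (3 ^ a) ∣ qfac 3 (2 * a) := (pow_dvd_pow p (by
          have := Nat.le_mul_of_pos_left (3 ^ a - 1) hs
          omega)).trans hdv
        exact absurd ((Nat.pow_le_pow_left h _).trans (Nat.le_of_dvd hX hk)) (not_le.2 e5)

end CfsgLib.Char.Berger
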