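import Cfsg.Agent.Lib.Char.TransLinear.Field

/-!
Semisimple linear groups over the prime field: restriction and Clifford's theorem.
-/

set_option autoImplicit false
set_option linter.unusedSectionVars false

namespace CfsgLib.Char.Berger

universe v

variable {p : ℕ} [Fact p.Prime] {V : Type v} [AddCommGroup V] [Module (ZMod p) V] [Finite V]

theorem finite_gl : Finite (V ≃ₗ[ZMod p] V) :=
  Finite.of_injective (fun f => (f : V → V)) DFunLike.coe_injective

instance : Finite (V ≃ₗ[ZMod p] V) := finite_gl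

/-- an invariant subspace -/
def Inv (G : Subgroup (V ≃ₗ[ZMod p] V)) (W : Submodule (ZMod p) V) : Prop :=
  ∀ g ∈ G, ∀ w ∈ W, g w ∈ W

/-- invariant subspaces have invariant complements -/
def SS (G : Subgroup (V ≃ₗ[ZMod p] V)) : Prop :=
  ∀ W, Inv G W → ∃ W', Inv G W' ∧ IsCompl W W'

/-- no invariant subspaces -/
def Irr (G : Subgroup (V ≃ₗ[ZMod p] V)) : Prop :=
  ∀ W, Inv G W → W = ⊥ ∨ W = ⊤

/-- an element acting on an invariant subspace -/
def resEquiv {G : Subgroup (V ≃ₗ[ZMod p] V)} {W : Submodule (ZMod p) V} (h : Inv G W) (g : G) :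
    W ≃ₗ[ZMod p] W where
  toFun w := ⟨(g : V ≃ₗ[ZMod p] V) w, h _ g.2 _ w.2⟩
  map_add' a b := Subtype.ext (map_add _ _ _)
  map_smul' c a := Subtype.ext (map_smul _ _ _)
  invFun w := ⟨((g⁻¹ : G) : V ≃ₗ[ZMod p] V) w, h _ (g⁻¹).2 _ w.2⟩
  left_inv w := Subtype.ext (LinearEquiv.symm_apply_apply _ _)
  right_inv w := Subtype.ext (LinearEquiv.apply_symm_apply _ _)

/-- the restriction to an invariant subspace -/
def resHom {G : Subgroup (V ≃ₗ[ZMod p] V)} {W : Submodule (ZMod p) V} (h : Inv G W) :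
    G →* (W ≃ₗ[ZMod p] W) where
  toFun := resEquiv h
  map_one' := LinearEquiv.ext fun _ => rfl
  map_mul' _ _ := LinearEquiv.ext fun _ => rfl

theorem resHom_apply {G : Subgroup (V ≃ₗ[ZMod p] V)} {W : Submodule (ZMod p) V} (h : Inv G W) (g : G) (w : W) :
    (resHom h g w : V) = (g : V ≃ₗ[ZMod p] V) w := rfl

theorem resHom_eq_one {G : Subgroup (V ≃ₗ[ZMod p] V)} {W : Submodule (ZMod p) V} (h : Inv G W) {g : G}
    (hg : resHom h g = 1) {w : V} (hw : w ∈ W) : (g : V ≃ₗ[ZMod p] V) w = w :=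
  congrArg Subtype.val (DFunLike.congr_fun hg (⟨w, hw⟩ : W))

theorem SS.res {G : Subgroup (V ≃ₗ[ZMod p] V)} (hs : SS G) {W : Submodule (ZMod p) V} (h : Inv G W) :
    SS (resHom h).range := by
  intro U hU
  have hUV : Inv G (U.map W.subtype) := by
    rintro g hg _ ⟨u, hu, rfl⟩
    exact ⟨resHom h ⟨g, hg⟩ u, hU _ ⟨_, rfl⟩ u hu, rfl⟩
  obtain ⟨U', hU', hc⟩ := hs _ hUV
  refine ⟨U'.comap W.subtype, ?_, ?_⟩
  · rintro _ ⟨g, rfl⟩ u hu
    exact hU' _ g.2 _ hu
  · refine IsCompl.of_eq ?_ ?_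
    · refine (Submodule.eq_bot_iff _).2 fun u hu => ?_
      obtain ⟨h1, h2⟩ := Submodule.mem_inf.1 hu
      exact Subtype.ext (Submodule.disjoint_def.1 hc.disjoint (u : V) ⟨u, h1, rfl⟩ h2)
    · refine eq_top_iff.2 fun w _ => ?_
      obtain ⟨a, ha, b, hb, e⟩ := Submodule.mem_sup.1 (hc.sup_eq_top.ge (Submodule.mem_top : (w : V) ∈ ⊤))
      obtain ⟨u, hu, rfl⟩ := ha
      have hb' : b ∈ W := by
        have : b = (w : V) - W.subtype u := by rw [← e, add_sub_cancel_left]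
        rw [this]; exact sub_mem w.2 u.2
      exact Submodule.mem_sup.2 ⟨u, hu, ⟨b, hb'⟩, hb, Subtype.ext e⟩

/-- the translate of a subspace -/
def moveSub (g : V ≃ₗ[ZMod p] V) (W : Submodule (ZMod p) V) : Submodule (ZMod p) V :=
  W.map g.toLinearMap

theorem mem_moveSub {g : V ≃ₗ[ZMod p] V} {W : Submodule (ZMod p) V} {v : V} :
    v ∈ moveSub g W ↔ g⁻¹ v ∈ W := by
  constructor
  · rintro ⟨w, hw, rfl⟩
    rwa [show g⁻¹ (g.toLinearMap w) = w from g.symm_apply_apply w]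
  · exact fun h => ⟨_, h, g.apply_symm_apply v⟩

/-- Clifford: a normal subgroup of an irreducible group is semisimple. -/
theorem SS.normal {G N : Subgroup (V ≃ₗ[ZMod p] V)} [Nontrivial V] (hi : Irr G) (hNG : N ≤ G)
    (hn : ∀ g ∈ G, ∀ x ∈ N, g * x * g⁻¹ ∈ N) : SS N := by
  classical
  haveI : Finite (Submodule (ZMod p) V) :=
    Finite.of_injective (fun W => (W : Set V)) SetLike.coe_injective
  obtain ⟨M, -, hM⟩ := exists_minimal_le_of_wellFoundedLT
    (fun M : Submodule (ZMod p) V => M ≠ ⊥ ∧ Inv N M) ⊤ ⟨top_ne_bot, fun _ _ _ _ => Submodule.mem_top⟩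
  obtain ⟨⟨hM0, hMi⟩, hMmin⟩ := hM
  have hmove : ∀ g ∈ G, ∀ W, Inv N W → Inv N (moveSub g W) := by
    intro g hg W hW x hx v hv
    rw [mem_moveSub] at hv ⊢
    have h := hW _ (hn _ (inv_mem hg) x hx) _ hv
    have e : (g⁻¹ * x * g⁻¹⁻¹) * g⁻¹ = g⁻¹ * x := by group
    rw [← LinearEquiv.mul_apply, e] at h
    exact h
  set S := ⨆ g : G, moveSub (g : V ≃ₗ[ZMod p] V) M with hS
  have hSi : Inv G S := by
    intro h hh v hv
    induction hv using Submodule.iSup_induction' with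
    | mem g w hw =>
      refine Submodule.mem_iSup_of_mem (⟨h, hh⟩ * g) ?_
      obtain ⟨m, hm, rfl⟩ := hw
      exact ⟨m, hm, rfl⟩
    | zero => rw [map_zero]; exact zero_mem _
    | add a b _ _ ha hb => rw [map_add]; exact add_mem ha hb
  have hStop : S = ⊤ := by
    refine (hi S hSi).resolve_left fun h => hM0 ?_
    refine le_bot_iff.1 (h ▸ le_iSup_of_le (1 : G) fun m hm => ⟨m, hm, rfl⟩)
  intro U hU
  obtain ⟨W, -, hW⟩ := exists_maximal_ge_of_wellFoundedGT
    (fun W : Submodule (ZMod p) V => Inv N W ∧ Disjoint U W) ⊥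
    ⟨fun g _ w hw => by rw [Submodule.mem_bot] at hw ⊢; rw [hw, map_zero], disjoint_bot_right⟩
  obtain ⟨hWi, hUW⟩ := hW.prop
  refine ⟨W, hWi, hUW, codisjoint_iff.2 ?_⟩
  refine eq_top_iff.2 (hStop ▸ iSup_le fun g => ?_)
  by_contra hle
  have hsup : Inv N (U ⊔ W) := by
    intro x hx v hv
    obtain ⟨a, ha, b, hb, rfl⟩ := Submodule.mem_sup.1 hv
    rw [map_add]
    exact Submodule.add_mem_sup (hU x hx a ha) (hWi x hx b hb)
  have hdis : Disjoint (moveSub (g : V ≃ₗ[ZMod p] V) M) (U ⊔ W) := by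
    refine Submodule.disjoint_def.2 fun v hv1 hv2 => ?_
    by_contra hv0
    let M' := M ⊓ moveSub (g : V ≃ₗ[ZMod p] V)⁻¹ (U ⊔ W)
    have hM' : M' ≠ ⊥ ∧ Inv N M' := by
      refine ⟨fun h => hv0 ?_, fun x hx w hw => ?_⟩
      · have h1 : (g : V ≃ₗ[ZMod p] V)⁻¹ v ∈ M' :=
          ⟨mem_moveSub.1 hv1, mem_moveSub.2 (by
            rw [← LinearEquiv.mul_apply, inv_inv, mul_inv_cancel]; exact hv2)⟩
        rw [h, Submodule.mem_bot, LinearEquiv.map_eq_zero_iff] at h1
        exact h1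
      · exact ⟨hMi x hx w hw.1, hmove _ (inv_mem g.2) _ hsup x hx w hw.2⟩
    have hMM := hMmin hM' inf_le_left
    exact hle fun w hw => by
      obtain ⟨m, hm, rfl⟩ := hw
      have := (hMM hm).2
      rw [SetLike.mem_coe, mem_moveSub, inv_inv] at this
      exact this
  have := hW.2 ⟨fun x hx v hv => ?_, hUW.disjoint_sup_right_of_disjoint_sup_left hdis.symm⟩ le_sup_left
  · exact hle (le_sup_right.trans this |>.trans le_sup_right)
  · obtain ⟨a, ha, b, hb, rfl⟩ := Submodule.mem_sup.1 hv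
    rw [map_add]
    exact Submodule.add_mem_sup (hWi x hx a ha) (hmove _ g.2 _ hMi x hx b hb)

/-- the exponent of `p` in the order -/
noncomputable def vp (p : ℕ) (X : Type*) : ℕ := (Nat.card X).factorization p

theorem vp_le_of_dvd {X Y : Type*} [Finite Y] [Nonempty Y] (h : Nat.card X ∣ Nat.card Y) : vp p X ≤ vp p Y := by
  have h0 : Nat.card X ≠ 0 := fun h' => Nat.card_pos.ne' (Nat.eq_zero_of_zero_dvd (h' ▸ h))
  exact (Nat.factorization_le_iff_dvd h0 Nat.card_pos.ne').2 h p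

theorem vp_le_of_injective {X Y : Type*} [Group X] [Group Y] [Finite Y] (f : X →* Y)
    (hf : Function.Injective f) : vp p X ≤ vp p Y :=
  vp_le_of_dvd (Subgroup.card_dvd_of_injective f hf)

theorem vp_eq_add {X Y : Type*} [Group X] [Group Y] [Finite X] (f : X →* Y) :
    vp p X = vp p f.ker + vp p f.range := by
  haveI : Finite f.range := Finite.of_surjective f.rangeRestrict f.rangeRestrict_surjective
  rw [vp, ← f.ker.card_mul_index, Subgroup.index_ker, Nat.factorization_mul Nat.card_pos.ne' Nat.card_pos.ne',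
    Finsupp.add_apply]
  rfl

theorem vp_prod {X Y : Type*} [Finite X] [Finite Y] [Nonempty X] [Nonempty Y] :
    vp p (X × Y) = vp p X + vp p Y := by
  rw [vp, Nat.card_prod, Nat.factorization_mul Nat.card_pos.ne' Nat.card_pos.ne', Finsupp.add_apply]
  rfl

theorem vp_pi {ι : Type*} [Fintype ι] {X : ι → Type*} [∀ i, Finite (X i)] [∀ i, Nonempty (X i)] :
    vp p (∀ i, X i) = ∑ i, vp p (X i) := by
  rw [vp, Nat.card_pi, Nat.factorization_prod fun i _ => Nat.card_pos.ne', Finset.sum_apply']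
  rfl

theorem vp_eq_zero {X : Type*} [Group X] [Finite X] (h : ∀ x : X, x ^ p = 1 → x = 1) : vp p X = 0 := by
  refine Nat.factorization_eq_zero_of_not_dvd fun hd => ?_
  obtain ⟨x, hx⟩ := exists_prime_orderOf_dvd_card' (G := X) p hd
  have := h x (hx ▸ pow_orderOf_eq_one x)
  rw [this, orderOf_one] at hx
  exact (Fact.out : p.Prime).one_lt.ne hx

end CfsgLib.Char.Berger
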