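import Cfsg.Agent.Lib.Char.Berger.Basics

/-!
The span of a normal abelian subgroup of an irreducible linear group is a field, or gives blocks.
-/

set_option autoImplicit false
set_option linter.unusedSectionVars false

namespace CfsgLib.Char.Berger

open Module

universe v

variable {p : ℕ} [Fact p.Prime] {V : Type v} [AddCommGroup V] [Module (ZMod p) V] [Finite V] [Nontrivial V]
  {G : Subgroup (V ≃ₗ[ZMod p] V)} (hi : Irr G) (A : Subgroup G) [A.Normal]
  (hA : ∀ a ∈ A, ∀ b ∈ A, a * b = b * a)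

theorem toEnd_apply (g : G) (v : V) : toEndHom G.subtype g v = (g : V ≃ₗ[ZMod p] V) v := rfl

include hi hA in
theorem span_reduced {x : Module.End (ZMod p) V} (hx : x ∈ spanAlg G.subtype A) (hn : IsNilpotent x) : x = 0 := by
  classical
  haveI := finite_moduleEnd (q := p) (V := V)
  haveI := Fintype.ofFinite (Module.End (ZMod p) V)
  let S := (Finset.univ : Finset (Module.End (ZMod p) V)).filter (fun y => y ∈ spanAlg G.subtype A ∧ IsNilpotent y)
  obtain ⟨v, hv, hS⟩ := exists_common_kernel (V := V) S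
    (fun a ha b hb => commute_in_spanAlg G.subtype hA (Finset.mem_filter.1 ha).2.1 (Finset.mem_filter.1 hb).2.1)
    (fun a ha => (Finset.mem_filter.1 ha).2.2)
  let K : Submodule (ZMod p) V := ⨅ y ∈ S, LinearMap.ker y
  have hK : ∀ w, w ∈ K ↔ ∀ y ∈ S, y w = 0 := fun w => by simp [K, Submodule.mem_iInf]
  rcases hi K (fun g hg w hw => (hK _).2 fun y hy => by
      have hy' : conjEnd G.subtype (⟨g, hg⟩ : G)⁻¹ y ∈ S := Finset.mem_filter.2 ⟨Finset.mem_univ _,
        conjEnd_mem_spanAlg G.subtype _ (Finset.mem_filter.1 hy).2.1,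
        (Finset.mem_filter.1 hy).2.2.map (conjEnd G.subtype _)⟩
      have h0 := (hK w).1 hw _ hy'
      have h1 := conjEnd_apply_smul G.subtype (⟨g, hg⟩ : G) (conjEnd G.subtype (⟨g, hg⟩ : G)⁻¹ y) w
      rw [← conjEnd_mul, mul_inv_cancel, conjEnd_one, h0, map_zero] at h1
      exact h1) with h | h
  · exact absurd ((Submodule.eq_bot_iff _).1 h v ((hK v).2 fun y hy => hS y hy)) hv
  · refine LinearMap.ext fun w => ?_
    exact (hK w).1 (h ▸ Submodule.mem_top) x (Finset.mem_filter.2 ⟨Finset.mem_univ _, hx, hn⟩)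

include hA in
theorem span_isField_of_idem (hr : ∀ x ∈ spanAlg G.subtype A, IsNilpotent x → x = 0)
    (hid : ∀ e ∈ spanAlg G.subtype A, e * e = e → e = 0 ∨ e = 1) : IsField (spanAlg G.subtype A) := by
  haveI := finite_moduleEnd (q := p) (V := V)
  refine ⟨⟨0, 1, ?_⟩, fun a b => Subtype.ext (commute_in_spanAlg G.subtype hA a.2 b.2), ?_⟩
  · intro h
    obtain ⟨v, hv⟩ := exists_ne (0 : V)
    exact hv (DFunLike.congr_fun (congrArg Subtype.val h) v).symm
  · intro a ha
    obtain ⟨i, j, hij, hp⟩ : ∃ i j : ℕ, i < j ∧ a ^ i = a ^ j := by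
      obtain ⟨i, j, hne, hp⟩ := Finite.exists_ne_map_eq_of_infinite (fun n : ℕ => a ^ n)
      rcases lt_or_gt_of_ne hne with h | h
      · exact ⟨i, j, h, hp⟩
      · exact ⟨j, i, h, hp.symm⟩
    obtain ⟨d, rfl⟩ : ∃ d, j = i + d := ⟨j - i, by omega⟩
    have hper : ∀ t, i ≤ t → a ^ (t + d) = a ^ t := fun t ht => by
      obtain ⟨u, rfl⟩ := Nat.exists_eq_add_of_le ht
      rw [add_right_comm, pow_add, ← hp, ← pow_add]
    have hper' : ∀ c t, i ≤ t → a ^ (t + c * d) = a ^ t := by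
      intro c
      induction c with
      | zero => simp
      | succ c ih => intro t ht; rw [add_mul, one_mul, ← add_assoc, hper _ (by omega), ih t ht]
    set m := (i + 1) * d with hm
    have him : i + 1 ≤ m := Nat.le_mul_of_pos_right _ (by omega)
    have hidem : a ^ m * a ^ m = a ^ m := by rw [← pow_add]; exact hper' (i + 1) m (by omega)
    rcases hid (a ^ m : spanAlg G.subtype A) (a ^ m).2 (congrArg Subtype.val hidem) with h | h
    · exact absurd (Subtype.ext (hr a a.2 ⟨m, h⟩)) ha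
    · refine ⟨a ^ (m - 1), ?_⟩
      rw [← pow_succ', show m - 1 + 1 = m by omega]
      exact Subtype.ext h

/-- conjugation preserves the primitive idempotents -/
def conjPerm (g : G) : Module.End (ZMod p) V ≃ Module.End (ZMod p) V where
  toFun := conjEnd G.subtype g
  invFun := conjEnd G.subtype g⁻¹
  left_inv r := by rw [← conjEnd_mul, inv_mul_cancel, conjEnd_one]
  right_inv r := by rw [← conjEnd_mul, mul_inv_cancel, conjEnd_one]

include hi hA in
theorem field_or_blocks : IsField (spanAlg G.subtype A) ∨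
    ∃ (ι : Type v) (_ : Fintype ι) (W : ι → Submodule (ZMod p) V) (σ : G →* Equiv.Perm ι) (r : ℕ),
      2 ≤ Fintype.card ι ∧ 1 ≤ r ∧ Fintype.card ι * r = finrank (ZMod p) V ∧ (∀ i, finrank (ZMod p) (W i) = r) ∧
      (∀ g ∈ σ.ker, ∀ i, ∀ w ∈ W i, (g : V ≃ₗ[ZMod p] V) w ∈ W i) ∧
      (∀ g : G, (∀ i, ∀ w ∈ W i, (g : V ≃ₗ[ZMod p] V) w = w) → g = 1) := by
  classical
  by_cases hid : ∀ e ∈ spanAlg G.subtype A, e * e = e → e = 0 ∨ e = 1
  · exact Or.inl (span_isField_of_idem A hA (fun x hx hn => span_reduced hi A hA hx hn) hid)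
  refine Or.inr ?_
  push Not at hid
  obtain ⟨e₁, he₁, hee₁, he₁0, he₁1⟩ := hid
  haveI := finite_moduleEnd (q := p) (V := V)
  haveI := Fintype.ofFinite (Module.End (ZMod p) V)
  haveI : Finite (Submodule (ZMod p) V) := Finite.of_injective (fun W => (W : Set V)) SetLike.coe_injective
  let IP : Module.End (ZMod p) V → Prop := fun e => e ∈ spanAlg G.subtype A ∧ e * e = e ∧ e ≠ 0
  let Mn : Module.End (ZMod p) V → Prop := fun e => IP e ∧ ∀ f, IP f → f * e = f → f = e
  have hcm : ∀ {x y}, x ∈ spanAlg G.subtype A → y ∈ spanAlg G.subtype A → x * y = y * x := fun hx hy =>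
    (commute_in_spanAlg G.subtype hA hx hy).eq
  have hIPc : ∀ g e, IP e → IP (conjEnd G.subtype g e) := by
    rintro g e ⟨h1, h2, h3⟩
    refine ⟨conjEnd_mem_spanAlg G.subtype g h1, by rw [← map_mul, h2], fun h => h3 ?_⟩
    have h' := congrArg (conjEnd G.subtype g⁻¹) h
    rwa [← conjEnd_mul, inv_mul_cancel, conjEnd_one, map_zero] at h'
  have hMc : ∀ g e, Mn e → Mn (conjEnd G.subtype g e) := by
    rintro g e ⟨h1, h2⟩
    refine ⟨hIPc g e h1, fun f hf hfe => ?_⟩
    have h' := h2 _ (hIPc g⁻¹ f hf) (by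
      have := congrArg (conjEnd G.subtype g⁻¹) hfe
      rwa [map_mul, ← conjEnd_mul, inv_mul_cancel, conjEnd_one] at this)
    rw [← h', ← conjEnd_mul, mul_inv_cancel, conjEnd_one]
  -- a primitive idempotent below `e₁`
  have hex : ∃ e, Mn e ∧ e * e₁ = e := by
    obtain ⟨e, he, hemin⟩ := Finset.exists_min_image
      (Finset.univ.filter fun e => IP e ∧ e * e₁ = e) (fun e => Nat.card (LinearMap.range e))
      ⟨e₁, Finset.mem_filter.2 ⟨Finset.mem_univ _, ⟨he₁, hee₁, he₁0⟩, hee₁⟩⟩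
    obtain ⟨-, hIe, hee⟩ := Finset.mem_filter.1 he
    refine ⟨e, ⟨hIe, fun f hf hfe => ?_⟩, hee⟩
    have hfe₁ : f * e₁ = f := by rw [← hfe, mul_assoc, hee]
    have h1 := hemin f (Finset.mem_filter.2 ⟨Finset.mem_univ _, hf, hfe₁⟩)
    have hef : e * f = f := by rw [hcm hIe.1 hf.1, hfe]
    have hle : LinearMap.range f ≤ LinearMap.range e := by
      rintro _ ⟨v, rfl⟩
      exact ⟨f v, by rw [← Module.End.mul_apply, hef]⟩
    have heq : (LinearMap.range f : Set V) = LinearMap.range e :=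
      Set.eq_of_subset_of_ncard_le hle (by rw [← Nat.card_coe_set_eq, ← Nat.card_coe_set_eq]; exact h1) (Set.toFinite _)
    refine LinearMap.ext fun v => ?_
    obtain ⟨u, hu⟩ : e v ∈ (LinearMap.range f : Set V) := heq ▸ ⟨v, rfl⟩
    have h2 : f (e v) = e v := by rw [← hu, ← Module.End.mul_apply, hf.2.1]
    rw [← h2, ← Module.End.mul_apply, hfe]
  obtain ⟨e₀, he₀, he₀₁⟩ := hex
  let O : Finset (Module.End (ZMod p) V) := Finset.univ.filter fun e => ∃ g : G, conjEnd G.subtype g e₀ = e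
  have hO : ∀ {e}, e ∈ O ↔ ∃ g : G, conjEnd G.subtype g e₀ = e := fun {e} => by simp [O]
  have hOM : ∀ e ∈ O, Mn e := fun e he => by obtain ⟨g, rfl⟩ := hO.1 he; exact hMc g _ he₀
  have horth : ∀ a ∈ O, ∀ b ∈ O, a ≠ b → a * b = 0 := by
    intro a ha b hb hne
    by_contra h0
    have ha' := hOM a ha
    have hb' := hOM b hb
    have hab := hcm ha'.1.1 hb'.1.1
    have hI : IP (a * b) := ⟨mul_mem ha'.1.1 hb'.1.1, by
      rw [mul_assoc, ← mul_assoc b a b, ← hab, mul_assoc a b b, hb'.1.2.1, ← mul_assoc, ha'.1.2.1], h0⟩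
    have h1 := ha'.2 _ hI (by rw [hab, mul_assoc, ha'.1.2.1])
    have h2 := hb'.2 _ hI (by rw [mul_assoc, hb'.1.2.1])
    exact hne (h1.symm.trans h2)
  set s := ∑ e ∈ O, e with hs
  have hstab : ∀ (g : G), ∀ e ∈ O, conjEnd G.subtype g e ∈ O := fun g e he => by
    obtain ⟨h, rfl⟩ := hO.1 he
    exact hO.2 ⟨g * h, conjEnd_mul _ _ _ _⟩
  have hsconj : ∀ g : G, conjEnd G.subtype g s = s := fun g => by
    rw [hs, map_sum]
    refine Finset.sum_bij' (fun e _ => conjEnd G.subtype g e) (fun e _ => conjEnd G.subtype g⁻¹ e)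
      (fun e he => hstab g e he) (fun e he => hstab g⁻¹ e he) (fun e _ => ?_) (fun e _ => ?_) fun e _ => rfl
    · rw [← conjEnd_mul, inv_mul_cancel, conjEnd_one]
    · rw [← conjEnd_mul, mul_inv_cancel, conjEnd_one]
  have he₀O : e₀ ∈ O := hO.2 ⟨1, conjEnd_one _ _⟩
  have hse : ∀ e ∈ O, e * s = e := fun e he => by
    rw [hs, Finset.mul_sum, Finset.sum_eq_single_of_mem e he fun b hb hne => horth e he b hb (Ne.symm hne)]
    exact (hOM e he).1.2.1
  have hs2 : s * s = s := by
    conv_lhs => arg 1; rw [hs]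
    rw [Finset.sum_mul, Finset.sum_congr rfl hse]
  have hrange : LinearMap.range s = ⊤ := by
    refine (hi _ fun g hg w hw => ?_).resolve_left fun h => he₀.1.2.2 ?_
    · obtain ⟨v, rfl⟩ := hw
      refine ⟨g v, ?_⟩
      have h1 := conjEnd_apply_smul G.subtype (⟨g, hg⟩ : G) s v
      rw [hsconj] at h1
      exact h1
    · rw [← hse e₀ he₀O, LinearMap.range_eq_bot.1 h, mul_zero]
  have hs1 : s = 1 := LinearMap.ext fun v => by
    obtain ⟨u, hu⟩ := LinearMap.range_eq_top.1 hrange v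
    rw [← hu, ← Module.End.mul_apply, hs2, Module.End.one_apply]
  let σ : G →* Equiv.Perm ↥O :=
    { toFun := fun g =>
        { toFun := fun e => ⟨conjEnd G.subtype g e, hstab g e e.2⟩
          invFun := fun e => ⟨conjEnd G.subtype g⁻¹ e, hstab g⁻¹ e e.2⟩
          left_inv := fun e => Subtype.ext (by simp [← conjEnd_mul, conjEnd_one])
          right_inv := fun e => Subtype.ext (by simp [← conjEnd_mul, conjEnd_one]) }
      map_one' := Equiv.ext fun e => Subtype.ext (conjEnd_one _ _)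
      map_mul' := fun g h => Equiv.ext fun e => Subtype.ext (conjEnd_mul _ g h _) }
  let W : ↥O → Submodule (ZMod p) V := fun e => LinearMap.range (e : Module.End (ZMod p) V)
  let Φ : V ≃ₗ[ZMod p] (∀ e : ↥O, W e) :=
    { toFun := fun v e => ⟨(e : Module.End (ZMod p) V) v, ⟨v, rfl⟩⟩
      map_add' := fun a b => funext fun e => Subtype.ext (map_add _ _ _)
      map_smul' := fun c a => funext fun e => Subtype.ext (map_smul _ _ _)
      invFun := fun w => ∑ e, (w e : V)
      left_inv := fun v => by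
        show ∑ e : ↥O, (e : Module.End (ZMod p) V) v = v
        rw [← LinearMap.sum_apply, Finset.sum_coe_sort O fun e => e, ← hs, hs1, Module.End.one_apply]
      right_inv := fun w => funext fun e => Subtype.ext (by
        show (e : Module.End (ZMod p) V) (∑ f, (w f : V)) = w e
        rw [map_sum, Finset.sum_eq_single e]
        · obtain ⟨u, hu⟩ := (w e).2
          rw [← hu, ← Module.End.mul_apply, (hOM e e.2).1.2.1]
        · intro f _ hne
          obtain ⟨u, hu⟩ := (w f).2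
          rw [← hu, ← Module.End.mul_apply, horth e e.2 f f.2 fun h => hne (Subtype.ext h).symm]
          rfl
        · exact fun h => absurd (Finset.mem_univ _) h) }
  have hrk : ∀ e : ↥O, finrank (ZMod p) (W e) = finrank (ZMod p) (LinearMap.range e₀) := by
    rintro ⟨e, he⟩
    obtain ⟨g, rfl⟩ := hO.1 he
    refine (LinearEquiv.finrank_eq ((g : V ≃ₗ[ZMod p] V).submoduleMap (LinearMap.range e₀) |>.trans
      (LinearEquiv.ofEq _ _ ?_))).symm
    apply le_antisymm
    · rintro _ ⟨_, ⟨v, rfl⟩, rfl⟩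
      exact ⟨(g : V ≃ₗ[ZMod p] V) v, conjEnd_apply_smul G.subtype g e₀ v⟩
    · rintro _ ⟨v, rfl⟩
      refine ⟨e₀ ((g⁻¹ : G) • v), ⟨_, rfl⟩, ?_⟩
      have h1 := conjEnd_apply_smul G.subtype g e₀ (((g⁻¹ : G) : V ≃ₗ[ZMod p] V) v)
      rw [show G.subtype g (((g⁻¹ : G) : V ≃ₗ[ZMod p] V) v) = v from LinearEquiv.apply_symm_apply _ v] at h1
      exact h1.symm
  refine ⟨↥O, inferInstance, W, σ, finrank (ZMod p) (LinearMap.range e₀), ?_, ?_, ?_, hrk, ?_, ?_⟩
  · rw [Fintype.card_coe]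
    by_contra hlt
    have h1 : O = {e₀} := (Finset.eq_singleton_iff_unique_mem).2 ⟨he₀O, fun e he => by
      by_contra hne
      exact hlt (Finset.one_lt_card.2 ⟨e, he, e₀, he₀O, hne⟩)⟩
    have : e₀ = 1 := by rw [← hs1, hs, h1, Finset.sum_singleton]
    rw [this, one_mul] at he₀₁
    exact he₁1 he₀₁
  · refine Nat.one_le_iff_ne_zero.2 fun h => he₀.1.2.2 (LinearMap.range_eq_bot.1 ?_)
    exact Submodule.finrank_eq_zero.1 h
  · rw [LinearEquiv.finrank_eq Φ, Module.finrank_pi_fintype, Finset.sum_congr rfl fun e _ => hrk e,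
      Finset.sum_const, Finset.card_univ, smul_eq_mul]
  · rintro g hg e _ ⟨v, rfl⟩
    have he : conjEnd G.subtype g (e : Module.End (ZMod p) V) = e :=
      congrArg Subtype.val (DFunLike.congr_fun (MonoidHom.mem_ker.1 hg) e)
    refine ⟨(g : V ≃ₗ[ZMod p] V) v, ?_⟩
    have h1 := conjEnd_apply_smul G.subtype g (e : Module.End (ZMod p) V) v
    rw [he] at h1
    exact h1
  · intro g hg
    refine Subtype.ext (LinearEquiv.ext fun v => ?_)
    have hv : v = ∑ e : ↥O, ((Φ v e : W e) : V) := (Φ.left_inv v).symm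
    show (g : V ≃ₗ[ZMod p] V) v = v
    conv_lhs => rw [hv]
    rw [map_sum, Finset.sum_congr rfl fun e _ => hg e _ (Φ v e).2]
    exact hv.symm

end CfsgLib.Char.Berger
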