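import Mathlib

/-!
The algebra spanned over a finite field by a group with non-degenerate commutator pairing is a matrix
algebra over that field.
-/

set_option autoImplicit false
set_option linter.unusedSectionVars false

namespace CfsgLib.Char.Berger

universe u

open scoped commutatorElement

variable {S : Type u} [Ring S] [Finite S] {E : Type*} [Group E] [Finite E] (A : Subgroup E)

theorem exists_matrix_units [A.Normal] (K : Subring S) (hK : IsField K) (f : E →* S)
    (hA : ∀ a ∈ A, f a ∈ K) (hKc : ∀ c ∈ K, ∀ e, c * f e = f e * c) (hcomm : ∀ x y : E, ⁅x, y⁆ ∈ A)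
    (hnd : ∀ x : E, (∀ y : E, f ⁅x, y⁆ = 1) → x ∈ A) :
    ∃ (d : ℕ) (a b : Fin d → S) (i₀ : Fin d), A.index = d ^ 2 ∧
      (∀ z : S, (∀ e, z * f e = f e * z) → (∀ c ∈ K, z * c = c * z) → ∀ i, z * a i = a i * z ∧ z * b i = b i * z) ∧
      (∀ i, b i * a i = b i₀) ∧ (∀ i j, i ≠ j → b i * a j = 0) ∧ ∑ i, a i * b i = 1 ∧
      (∀ i, b i₀ * b i = b i) ∧ b i₀ * b i₀ = b i₀ := by
  classical
  letI := Fintype.ofFinite (E ⧸ A)
  haveI : Finite K := Subtype.finite
  let o : E ⧸ A → E := Quotient.out
  have ho : ∀ t, (QuotientGroup.mk (o t) : E ⧸ A) = t := fun t => QuotientGroup.out_eq' t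
  let ch : E → E → K := fun y x => ⟨f ⁅y, x⁆, hA _ (hcomm y x)⟩
  have hch : ∀ y x, f y * f x = (ch y x : S) * (f x * f y) := fun y x => by
    show f y * f x = f ⁅y, x⁆ * (f x * f y)
    rw [← map_mul, ← map_mul, ← map_mul]
    congr 1
    rw [commutatorElement_def]
    group
  have hsep : ∀ x x' : E, (∀ y, ch y x = ch y x') → (QuotientGroup.mk x : E ⧸ A) = QuotientGroup.mk x' := by
    intro x x' h
    rw [QuotientGroup.eq]
    refine hnd _ fun y => ?_
    have hne : ∀ e, f e * f e⁻¹ = 1 := fun e => by rw [← map_mul, mul_inv_cancel, map_one]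
    have h1 : f y * f x * (f y⁻¹ * f x⁻¹) = f y * f x' * (f y⁻¹ * f x'⁻¹) := by
      simpa [ch, commutatorElement_def, map_mul, mul_assoc] using congrArg Subtype.val (h y)
    have hz : ∀ a ∈ A, ∀ e, f a * f e = f e * f a := fun a ha e => hKc _ (hA a ha) e
    have h2 : f (⁅x⁻¹ * x', y⁆) = 1 := by
      have e0 : ⁅x⁻¹ * x', y⁆ = x⁻¹ * (⁅y, x'⁆⁻¹ * ⁅y, x⁆) * x := by
        simp only [commutatorElement_def]; group
      rw [e0, map_mul, map_mul, ← hz _ (mul_mem (inv_mem (hcomm _ _)) (hcomm _ _)), mul_assoc, ← map_mul f x⁻¹,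
        inv_mul_cancel, map_one, mul_one, map_mul]
      have h3 : f ⁅y, x⁆ = f ⁅y, x'⁆ := congrArg Subtype.val (h y)
      rw [h3, ← map_mul, inv_mul_cancel, map_one]
    exact h2
  let Φ : ((E ⧸ A) → K) →+ S :=
    { toFun := fun c => ∑ t, (c t : S) * f (o t)
      map_zero' := by simp
      map_add' := fun c c' => by simp [add_mul, Finset.sum_add_distrib] }
  have hΦ : ∀ c, Φ c = ∑ t, (c t : S) * f (o t) := fun c => rfl
  have hsingle : ∀ t (x : K), Φ (Pi.single t x) = (x : S) * f (o t) := fun t x => by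
    rw [hΦ, Finset.sum_eq_single t]
    · simp
    · intro u _ hne; simp [Pi.single_eq_of_ne hne]
    · simp
  have hmulK : ∀ (x : K) c, Φ (fun t => x * c t) = (x : S) * Φ c := fun x c => by
    simp [hΦ, Finset.mul_sum, mul_assoc]
  have hconj : ∀ y c, Φ (fun t => ch y (o t) * c t) = f y * Φ c * f y⁻¹ := fun y c => by
    rw [hΦ, hΦ, Finset.mul_sum, Finset.sum_mul]
    refine Finset.sum_congr rfl fun t _ => ?_
    rw [← mul_assoc, ← hKc _ (c t).2, mul_assoc _ (f y), hch, mul_assoc, mul_assoc, mul_assoc,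
      ← map_mul, ← map_mul, mul_inv_cancel, mul_one, ← mul_assoc, Subring.coe_mul,
      show (ch y (o t) : S) * (c t : S) = (c t : S) * ch y (o t) from
        congrArg Subtype.val (hK.mul_comm (ch y (o t)) (c t))]
  -- an invariant additive group of coefficient vectors contains the components of its members
  have key : ∀ J : AddSubgroup ((E ⧸ A) → K), (∀ y, ∀ c ∈ J, (fun t => ch y (o t) * c t) ∈ J) →
      (∀ x : K, ∀ c ∈ J, (fun t => x * c t) ∈ J) → ∀ c ∈ J, ∀ t, Pi.single t (c t) ∈ J := by
    intro J hJ1 hJ2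
    suffices h : ∀ n, ∀ c ∈ J, (Finset.univ.filter fun t => c t ≠ 0).card = n → ∀ t, Pi.single t (c t) ∈ J from
      fun c hc => h _ c hc rfl
    intro n
    induction n using Nat.strong_induction_on with
    | _ n ih =>
    intro c hc hn t
    by_cases ht : c t = 0
    · rw [ht, Pi.single_zero]; exact zero_mem _
    by_cases h1 : ∃ t', t' ≠ t ∧ c t' ≠ 0
    · obtain ⟨t', hne, ht'⟩ := h1
      obtain ⟨y, hy⟩ : ∃ y, ch y (o t) ≠ ch y (o t') := by
        by_contra! h
        exact hne (by rw [← ho t', ← ho t, hsep _ _ h])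
      let c' : (E ⧸ A) → K := (fun u => ch y (o u) * c u) - fun u => ch y (o t') * c u
      have hc' : c' ∈ J := sub_mem (hJ1 y c hc) (hJ2 _ c hc)
      have hlt : (Finset.univ.filter fun u => c' u ≠ 0).card < n := by
        rw [← hn]
        refine Finset.card_lt_card (Finset.ssubset_iff_of_subset (fun u hu => ?_) |>.2 ⟨t', ?_, ?_⟩)
        · simp only [Finset.mem_filter, Finset.mem_univ, true_and] at hu ⊢
          intro h
          exact hu (by simp [c', h])
        · simpa using ht'
        · simp [c']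
      have h2 := ih _ hlt c' hc' rfl t
      have hd : ch y (o t) - ch y (o t') ≠ 0 := sub_ne_zero.2 hy
      obtain ⟨w, hw⟩ := hK.mul_inv_cancel hd
      have h3 := hJ2 w _ h2
      convert h3 using 1
      funext u
      by_cases hu : u = t
      · subst hu
        simp only [Pi.single_eq_same, c', Pi.sub_apply]
        rw [← sub_mul, ← mul_assoc, hK.mul_comm w, hw, one_mul]
      · simp [Pi.single_eq_of_ne hu]
    · push Not at h1
      convert hc using 1
      funext u
      by_cases hu : u = t
      · subst hu; simp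
      · rw [Pi.single_eq_of_ne hu, h1 u hu]
  have hinj : Function.Injective Φ := by
    refine (injective_iff_map_eq_zero Φ).2 fun c hc => ?_
    funext t
    have h := key Φ.ker (fun y c hc => by
        rw [AddMonoidHom.mem_ker] at hc ⊢; rw [hconj, hc, mul_zero, zero_mul])
      (fun x c hc => by rw [AddMonoidHom.mem_ker] at hc ⊢; rw [hmulK, hc, mul_zero]) c hc t
    rw [AddMonoidHom.mem_ker, hsingle] at h
    have h1 : (c t : S) * (f (o t) * f (o t)⁻¹) = 0 := by rw [← mul_assoc, h, zero_mul]
    rw [← map_mul, mul_inv_cancel, map_one, mul_one] at h1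
    exact Subtype.ext h1
  have hfR : ∀ x : E, ∃ c, Φ c = f x := fun x => by
    let t : E ⧸ A := QuotientGroup.mk x
    have ha : x * (o t)⁻¹ ∈ A := by
      have h0 : (o t)⁻¹ * x ∈ A := QuotientGroup.eq.1 (ho t)
      have := (inferInstance : A.Normal).conj_mem _ h0 (o t)
      simpa [mul_assoc] using this
    exact ⟨Pi.single t ⟨_, hA _ ha⟩, by rw [hsingle, ← map_mul, inv_mul_cancel_right]⟩
  let R : Subring S :=
    { carrier := Φ.range
      zero_mem' := zero_mem _
      add_mem' := fun {a b} ha hb => add_mem (s := Φ.range) ha hb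
      neg_mem' := fun {a} ha => neg_mem (s := Φ.range) ha
      one_mem' := by rw [← map_one f]; exact hfR 1
      mul_mem' := by
        rintro _ _ ⟨c, rfl⟩ ⟨c', rfl⟩
        show Φ c * Φ c' ∈ Φ.range
        rw [hΦ, Finset.sum_mul]
        refine AddSubgroup.sum_mem _ fun t _ => ?_
        rw [hΦ, Finset.mul_sum]
        refine AddSubgroup.sum_mem _ fun t' _ => ?_
        obtain ⟨d, hd⟩ := hfR (o t * o t')
        refine ⟨fun u => (c t * c' t') * d u, ?_⟩
        rw [hmulK, hd, map_mul, Subring.coe_mul]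
        simp only [mul_assoc]
        rw [← mul_assoc (c' t' : S), hKc _ (c' t').2]
        simp only [mul_assoc] }
  have hRf : ∀ x, f x ∈ R := hfR
  haveI : Finite R := Subtype.finite
  haveI : Nontrivial K := ⟨hK.exists_pair_ne.choose, hK.exists_pair_ne.choose_spec⟩
  haveI : Nontrivial R := by
    refine ⟨⟨⟨1, one_mem _⟩, 0, fun h => ?_⟩⟩
    have h1 : (1 : S) = 0 := congrArg Subtype.val h
    exact one_ne_zero (α := K) (Subtype.ext h1)
  haveI : IsSimpleRing R := by
    refine IsSimpleRing.of_eq_bot_or_eq_top fun I => ?_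
    by_cases h0 : ∀ r ∈ I, r = 0
    · exact Or.inl (by ext r; exact ⟨fun h => (TwoSidedIdeal.mem_bot _).2 (h0 r h), fun h => by
        rw [TwoSidedIdeal.mem_bot] at h; rw [h]; exact I.zero_mem⟩)
    push Not at h0
    obtain ⟨r, hrI, hr0⟩ := h0
    obtain ⟨c, hc⟩ := r.2
    refine Or.inr ((TwoSidedIdeal.one_mem_iff _).1 ?_)
    let J : AddSubgroup ((E ⧸ A) → K) :=
      { carrier := {c | (⟨Φ c, c, rfl⟩ : R) ∈ I}
        zero_mem' := by
          show (⟨Φ 0, 0, rfl⟩ : R) ∈ I
          convert I.zero_mem using 1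
          exact Subtype.ext (map_zero Φ)
        add_mem' := fun {a b} ha hb => by
          show (⟨Φ (a + b), a + b, rfl⟩ : R) ∈ I
          convert I.add_mem ha hb using 1
          exact Subtype.ext (map_add Φ a b)
        neg_mem' := fun {a} ha => by
          show (⟨Φ (-a), -a, rfl⟩ : R) ∈ I
          convert I.neg_mem ha using 1
          exact Subtype.ext (map_neg Φ a) }
    have hcne : ∃ t, c t ≠ 0 := by
      by_contra! h
      exact hr0 (Subtype.ext (by rw [← hc, show c = 0 from funext h, map_zero]; rfl))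
    obtain ⟨t, ht⟩ := hcne
    have hs := key J (fun y a ha => by
        show (⟨Φ _, _, rfl⟩ : R) ∈ I
        convert I.mul_mem_right _ ⟨f y⁻¹, hRf _⟩ (I.mul_mem_left ⟨f y, hRf y⟩ _ ha) using 1
        exact Subtype.ext (hconj y a))
      (fun x a ha => by
        show (⟨Φ _, _, rfl⟩ : R) ∈ I
        obtain ⟨d, hd⟩ := hfR 1
        convert I.mul_mem_left ⟨(x : S), ⟨fun u => x * d u, by rw [hmulK, hd, map_one, mul_one]⟩⟩ _ ha using 1
        exact Subtype.ext (hmulK x a))
      c (by show (⟨Φ c, c, rfl⟩ : R) ∈ I; convert hrI using 1; exact Subtype.ext hc) t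
    obtain ⟨w, hw⟩ := hK.mul_inv_cancel ht
    obtain ⟨d, hd⟩ := hfR 1
    have hunit := I.mul_mem_left ⟨(w : S) * f (o t)⁻¹, by
      obtain ⟨d', hd'⟩ := hfR (o t)⁻¹
      exact ⟨fun u => w * d' u, by rw [hmulK, hd']⟩⟩ _ (show (⟨Φ _, _, rfl⟩ : R) ∈ I from hs)
    convert hunit using 1
    refine Subtype.ext ?_
    show (1 : S) = (w : S) * f (o t)⁻¹ * Φ (Pi.single t (c t))
    rw [hsingle, mul_assoc, ← mul_assoc (f (o t)⁻¹), ← hKc _ (c t).2, mul_assoc, ← map_mul, inv_mul_cancel,
      map_one, mul_one, ← Subring.coe_mul, hK.mul_comm, hw]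
    rfl
  obtain ⟨d, hd, D, hD, ⟨φ⟩⟩ := IsSimpleRing.exists_ringEquiv_matrix_divisionRing R
  haveI : Finite (Matrix (Fin d) (Fin d) D) := Finite.of_equiv _ φ.toEquiv
  haveI : Finite D := Finite.of_injective (fun x : D => Matrix.scalar (Fin d) x) fun _ _ h => Matrix.scalar_inj.mp h
  letI : Field D := littleWedderburn D
  have hcardR : Nat.card R = Nat.card K ^ A.index := by
    show Nat.card Φ.range = _
    rw [← Nat.card_congr (AddMonoidHom.ofInjective hinj).toEquiv, Nat.card_pi, Finset.prod_const, Finset.card_univ,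
      ← Nat.card_eq_fintype_card]
    rfl
  have hcen : ∀ r : R, (∀ s : R, r * s = s * r) → (r : S) ∈ K := by
    intro r hr
    obtain ⟨c, hc⟩ := r.2
    obtain ⟨d', hd'⟩ := hfR 1
    have hsupp : ∀ t, c t ≠ 0 → (QuotientGroup.mk (o t) : E ⧸ A) = QuotientGroup.mk (1 : E) := by
      intro t ht
      refine hsep _ _ fun y => ?_
      have h1 : Φ (fun u => ch y (o u) * c u) = Φ c := by
        rw [hconj, hc]
        have := congrArg Subtype.val (hr ⟨f y, hRf y⟩)
        rw [Subring.coe_mul, Subring.coe_mul] at this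
        rw [← this, mul_assoc, ← map_mul, mul_inv_cancel, map_one, mul_one]
      have h2 : (ch y (o t) - 1) * c t = 0 := by
        have := congrFun (hinj h1) t
        rw [sub_mul, one_mul, this, sub_self]
      have h3 : ch y 1 = 1 := Subtype.ext (by show f ⁅y, (1 : E)⁆ = 1; rw [commutatorElement_one_right, map_one])
      rw [h3]
      by_contra hne
      obtain ⟨w, hw⟩ := hK.mul_inv_cancel (sub_ne_zero.2 hne)
      refine ht ?_
      rw [← one_mul (c t), ← hw, hK.mul_comm (ch y (o t) - 1) w, mul_assoc, h2, mul_zero]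
    set t1 : E ⧸ A := QuotientGroup.mk (1 : E)
    have hceq : c = Pi.single t1 (c t1) := funext fun u => by
      by_cases hu : u = t1
      · rw [hu, Pi.single_eq_same]
      · rw [Pi.single_eq_of_ne hu]
        by_contra hcu
        exact hu (by rw [← ho u, hsupp u hcu])
    rw [← hc, hceq, hsingle]
    refine mul_mem (c t1).2 (hA _ ?_)
    exact (QuotientGroup.eq_one_iff _).1 (ho t1)
  have hcardD : Nat.card D = Nat.card K := by
    let g : D → K := fun x => ⟨(φ.symm (Matrix.scalar (Fin d) x) : S), hcen _ fun s => by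
      apply φ.injective
      rw [map_mul, map_mul, φ.apply_symm_apply]
      exact (Matrix.scalar_commute x (fun y => mul_comm x y) (φ s)).eq⟩
    have hg : Function.Injective g := fun x y h => by
      have h1 : φ.symm (Matrix.scalar (Fin d) x) = φ.symm (Matrix.scalar (Fin d) y) :=
        Subtype.ext (congrArg (fun z : K => (z : S)) h)
      exact Matrix.scalar_inj.mp (φ.symm.injective h1)
    refine le_antisymm (Nat.card_le_card_of_injective g hg) ?_
    -- conversely, the scalars of `K` are central, hence scalar matrices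
    obtain ⟨d', hd'⟩ := hfR 1
    let h : K → R := fun x => ⟨(x : S), ⟨fun u => x * d' u, by rw [hmulK, hd', map_one, mul_one]⟩⟩
    have hh : ∀ x : K, ∃ a : D, φ (h x) = Matrix.scalar (Fin d) a := fun x => by
      have hc : φ (h x) ∈ Set.center (Matrix (Fin d) (Fin d) D) := by
        rw [Semigroup.mem_center_iff]
        intro M
        rw [← φ.apply_symm_apply M, ← map_mul, ← map_mul]
        congr 1
        obtain ⟨s, hs⟩ := (φ.symm M).2
        refine Subtype.ext ?_
        show (φ.symm M : S) * x = x * (φ.symm M : S)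
        rw [← hs, hΦ, Finset.mul_sum, Finset.sum_mul]
        refine Finset.sum_congr rfl fun t _ => ?_
        rw [mul_assoc, ← hKc _ x.2, ← mul_assoc, ← Subring.coe_mul, hK.mul_comm, Subring.coe_mul, mul_assoc]
      rw [Matrix.center_eq_scalar_image] at hc
      obtain ⟨a, -, ha⟩ := hc
      exact ⟨a, ha.symm⟩
    choose ga hga using hh
    exact Nat.card_le_card_of_injective ga fun x y e => by
      have h1 : h x = h y := φ.injective (by rw [hga, hga, e])
      exact Subtype.ext (congrArg (fun r : R => (r : S)) h1)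
  have hidx : A.index = d ^ 2 := by
    have h1 : Nat.card R = Nat.card D ^ (d ^ 2) := by
      rw [Nat.card_congr φ.toEquiv, Matrix, Nat.card_pi, Finset.prod_const, Finset.card_univ, Fintype.card_fin,
        Nat.card_pi, Finset.prod_const, Finset.card_univ, Fintype.card_fin, ← pow_mul, sq]
    rw [hcardR, hcardD] at h1
    exact Nat.pow_right_injective (Finite.one_lt_card : 1 < Nat.card K) h1
  let i₀ : Fin d := ⟨0, Nat.pos_of_ne_zero (NeZero.ne d)⟩
  let U : Fin d → Fin d → S := fun i j => (φ.symm (Matrix.single i j (1 : D)) : S)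
  have hU : ∀ i j k l, U i j * U k l = if j = k then U i l else 0 := fun i j k l => by
    show (φ.symm _ : S) * (φ.symm _ : S) = _
    rw [← Subring.coe_mul, ← map_mul]
    by_cases h : j = k
    · subst h; rw [Matrix.single_mul_single_same, one_mul, if_pos rfl]
    · rw [Matrix.single_mul_single_of_ne (h := h), if_neg h, map_zero]; rfl
  refine ⟨d, fun i => U i i₀, fun i => U i₀ i, i₀, hidx, fun z hz hzK i => ?_, fun i => ?_, fun i j hne => ?_, ?_,
    fun i => ?_, ?_⟩
  · have hzR : ∀ r : R, z * (r : S) = (r : S) * z := fun r => by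
      obtain ⟨c, hc⟩ := r.2
      rw [← hc, hΦ, Finset.mul_sum, Finset.sum_mul]
      exact Finset.sum_congr rfl fun t _ => by rw [← mul_assoc, hzK _ (c t).2, mul_assoc, hz, mul_assoc]
    exact ⟨hzR _, hzR _⟩
  · show U i₀ i * U i i₀ = U i₀ i₀; rw [hU, if_pos rfl]
  · show U i₀ i * U j i₀ = 0; rw [hU, if_neg hne]
  · calc ∑ i, U i i₀ * U i₀ i = ∑ i, U i i := Finset.sum_congr rfl fun i _ => by rw [hU, if_pos rfl]
      _ = (φ.symm (∑ i, Matrix.single i i (1 : D)) : S) := by rw [map_sum, AddSubmonoidClass.coe_finset_sum]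
      _ = 1 := by
        rw [show ∑ i, Matrix.single i i (1 : D) = (1 : Matrix (Fin d) (Fin d) D) by
          ext k l
          rw [Matrix.sum_apply, Matrix.one_apply]
          rw [Finset.sum_eq_single k (fun b _ hb => by simp [Matrix.single, hb])
            (fun h => absurd (Finset.mem_univ _) h)]
          simp [Matrix.single], map_one]
        rfl
  · show U i₀ i₀ * U i₀ i = U i₀ i; rw [hU, if_pos rfl]
  · show U i₀ i₀ * U i₀ i₀ = U i₀ i₀; rw [hU, if_pos rfl]

end CfsgLib.Char.Berger
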