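import Cfsg.Agent.Lib.Char.Berger.Arith
import Cfsg.Agent.Lib.Char.Berger.Blocks
import Cfsg.Agent.Lib.Char.Berger.Twisted
import Cfsg.Agent.Lib.Char.TransLinear.Structure

/-!
The order of a solvable semisimple linear group on a space of order `p^n` is not divisible by `p^n`.
-/

set_option autoImplicit false
set_option linter.unusedSectionVars false
set_option linter.style.haveILetI false
set_option maxHeartbeats 1000000

namespace CfsgLib.Char.Berger

open Module
open scoped commutatorElement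

universe v

variable {p : ℕ} [Fact p.Prime]

/-- the statement in dimension `n` -/
def Bound (p : ℕ) [Fact p.Prime] (n : ℕ) : Prop :=
  ∀ (V : Type v) [AddCommGroup V] [Module (ZMod p) V] [Finite V], finrank (ZMod p) V = n →
    ∀ G : Subgroup (V ≃ₗ[ZMod p] V), Group.IsSolvable G → SS G → vp p G ≤ n - 1

variable {V : Type v} [AddCommGroup V] [Module (ZMod p) V] [Finite V]

theorem Bound.res {n : ℕ} (ih : ∀ m < n, Bound.{v} p m) {H : Subgroup (V ≃ₗ[ZMod p] V)} (hs : Group.IsSolvable H)
    (hss : SS H) {W : Submodule (ZMod p) V} (h : Inv H W) (hlt : finrank (ZMod p) W < n) :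
    vp p (resHom h).range ≤ finrank (ZMod p) W - 1 :=
  haveI := hs
  ih _ hlt W rfl _ (Group.isSolvable_of_surjective (resHom h).rangeRestrict_surjective) (hss.res h)

theorem reducible_bound (G : Subgroup (V ≃ₗ[ZMod p] V)) (hs : Group.IsSolvable G) (hss : SS G)
    (ih : ∀ m < finrank (ZMod p) V, Bound.{v} p m) {W : Submodule (ZMod p) V} (hW : Inv G W) (h0 : W ≠ ⊥)
    (h1 : W ≠ ⊤) : vp p G ≤ finrank (ZMod p) V - 1 := by
  obtain ⟨W', hW', hc⟩ := hss W hW
  have hsum := Submodule.finrank_add_eq_of_isCompl hc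
  have p1 : 0 < finrank (ZMod p) W := Nat.pos_of_ne_zero fun h => h0 (Submodule.finrank_eq_zero.1 h)
  have p2 : 0 < finrank (ZMod p) W' := Nat.pos_of_ne_zero fun h => h1 (by
    rw [Submodule.finrank_eq_zero.1 h] at hc
    simpa using hc.sup_eq_top)
  let φ : G →* (resHom hW).range × (resHom hW').range :=
    (resHom hW).rangeRestrict.prod (resHom hW').rangeRestrict
  have hinj : Function.Injective φ := (injective_iff_map_eq_one φ).2 fun g hg => by
    refine Subtype.ext (LinearEquiv.ext fun v => ?_)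
    obtain ⟨a, ha, b, hb, rfl⟩ := Submodule.mem_sup.1 (hc.sup_eq_top.ge (Submodule.mem_top : v ∈ ⊤))
    rw [map_add, resHom_eq_one hW (congrArg Subtype.val (congrArg Prod.fst hg)) ha,
      resHom_eq_one hW' (congrArg Subtype.val (congrArg Prod.snd hg)) hb]
    rfl
  have hle := vp_le_of_injective (p := p) φ hinj
  rw [vp_prod] at hle
  have e1 := Bound.res ih hs hss hW (by omega)
  have e2 := Bound.res ih hs hss hW' (by omega)
  omega

theorem blocks_bound [Nontrivial V] (G : Subgroup (V ≃ₗ[ZMod p] V)) (hs : Group.IsSolvable G) (hi : Irr G)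
    (ih : ∀ m < finrank (ZMod p) V, Bound.{v} p m) {ι : Type v} [Fintype ι] (W : ι → Submodule (ZMod p) V)
    (σ : G →* Equiv.Perm ι) (r : ℕ) (hι : 2 ≤ Fintype.card ι) (hr : 1 ≤ r)
    (hn : Fintype.card ι * r = finrank (ZMod p) V) (hW : ∀ i, finrank (ZMod p) (W i) = r)
    (hker : ∀ g ∈ σ.ker, ∀ i, ∀ w ∈ W i, (g : V ≃ₗ[ZMod p] V) w ∈ W i)
    (hfaith : ∀ g : G, (∀ i, ∀ w ∈ W i, (g : V ≃ₗ[ZMod p] V) w = w) → g = 1) :
    vp p G ≤ finrank (ZMod p) V - 1 := by
  classical
  let N := σ.ker.map G.subtype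
  have hNG : N ≤ G := Subgroup.map_subtype_le _
  have hNn : ∀ g ∈ G, ∀ x ∈ N, g * x * g⁻¹ ∈ N := by
    rintro g hg _ ⟨x, hx, rfl⟩
    exact ⟨_, (MonoidHom.normal_ker σ).conj_mem x hx ⟨g, hg⟩, rfl⟩
  have hNs := SS.normal hi hNG hNn
  haveI := hs
  haveI : Group.IsSolvable N :=
    Group.isSolvable_of_isSolvable_injective (f := Subgroup.inclusion hNG) (Subgroup.inclusion_injective hNG)
  have hWN : ∀ i, Inv N (W i) := by
    rintro i _ ⟨x, hx, rfl⟩ w hw
    exact hker x hx i w hw
  let φ : N →* (∀ i, (resHom (hWN i)).range) :=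
    Pi.monoidHom fun i => (resHom (hWN i)).rangeRestrict
  have hinj : Function.Injective φ := (injective_iff_map_eq_one φ).2 fun g hg => by
    obtain ⟨x, hx, hxg⟩ := g.2
    have h1 : x = 1 := hfaith x fun i w hw => by
      have h := resHom_eq_one (hWN i) (congrArg Subtype.val (congrFun hg i)) hw
      rwa [← hxg] at h
    exact Subtype.ext (by rw [← hxg, h1, map_one]; rfl)
  have hN : vp p N ≤ Fintype.card ι * (r - 1) := by
    refine (vp_le_of_injective φ hinj).trans ?_
    rw [vp_pi, ← smul_eq_mul, ← Finset.card_univ, ← Finset.sum_const]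
    refine Finset.sum_le_sum fun i _ => (Bound.res ih inferInstance hNs (hWN i) ?_).trans_eq (by rw [hW])
    rw [hW, ← hn]
    nlinarith
  have hNk : vp p N = vp p σ.ker := by
    unfold vp
    rw [Nat.card_congr (σ.ker.equivMapOfInjective G.subtype G.subtype_injective).toEquiv]
  have hperm : vp p σ.range ≤ Fintype.card ι - 1 := by
    have h1 := vp_le_of_injective (p := p) σ.range.subtype σ.range.subtype_injective
    have h2 : vp p (Equiv.Perm ι) < Fintype.card ι := by
      rw [vp, Nat.card_eq_fintype_card, Fintype.card_perm,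
        Nat.factorization_def _ (Fact.out : p.Prime)]
      exact padicValNat_factorial_lt_of_ne_zero p (by omega)
    omega
  rw [vp_eq_add σ, ← hNk]
  obtain ⟨r', rfl⟩ : ∃ r', r = r' + 1 := ⟨r - 1, by omega⟩
  rw [Nat.add_sub_cancel] at hN
  rw [← hn, mul_add, mul_one]
  omega

theorem field_bound [Nontrivial V] (G : Subgroup (V ≃ₗ[ZMod p] V)) (hs : Group.IsSolvable G) (hi : Irr G)
    (ih : ∀ m < finrank (ZMod p) V, Bound.{v} p m) (A : Subgroup G) [A.Normal]
    (hA : ∀ a ∈ A, ∀ b ∈ A, a * b = b * a)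
    (hmax : ∀ A' : Subgroup G, A'.Normal → (∀ a ∈ A', ∀ b ∈ A', a * b = b * a) → A ≤ A' → A' = A)
    (hK : IsField (spanAlg G.subtype A)) : vp p G ≤ finrank (ZMod p) V - 1 := by
  classical
  haveI := hs
  haveI := finite_moduleEnd (q := p) (V := V)
  haveI : Finite G := inferInstance
  have hp : p.Prime := Fact.out
  set K := spanAlg G.subtype A with hKdef
  haveI : Finite K := Subtype.finite
  letI : Field K := hK.toField
  set τ := toEndHom G.subtype with hτ
  have hτinj : Function.Injective τ := toEndHom_injective G.subtype_injective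
  have hτmem : ∀ a ∈ A, τ a ∈ K := fun a ha => toEndHom_mem_spanAlg G.subtype ha
  obtain ⟨v₀, hv₀⟩ := exists_ne (0 : V)
  -- no elements of order `p` in `A`
  have hAp : ∀ a ∈ A, a ^ p = 1 → a = 1 := fun a ha hap => by
    have hpow : (τ a) ^ p = 1 := by rw [← map_pow, hap, map_one]
    haveI : CharP K p := charP_of_injective_algebraMap (algebraMap (ZMod p) K).injective p
    haveI : ExpChar K p := ExpChar.prime hp
    have h1 : ((⟨τ a, hτmem a ha⟩ : K) - 1) ^ p = 0 := by
      rw [sub_pow_expChar, one_pow, sub_eq_zero]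
      exact Subtype.ext hpow
    have h2 := eq_zero_of_pow_eq_zero h1
    exact hτinj (by rw [map_one]; exact congrArg Subtype.val (sub_eq_zero.1 h2))
  let ψ : G →* (K ≃ₐ[ZMod p] K) :=
    { toFun := fun g => AlgEquiv.ofAlgHom
        ((((conjEnd G.subtype g).comp K.val)).codRestrict K fun x => conjEnd_mem_spanAlg G.subtype g x.2)
        ((((conjEnd G.subtype g⁻¹).comp K.val)).codRestrict K fun x => conjEnd_mem_spanAlg G.subtype g⁻¹ x.2)
        (AlgHom.ext fun x => Subtype.ext (by
          show conjEnd G.subtype g (conjEnd G.subtype g⁻¹ (x : Module.End (ZMod p) V)) = x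
          rw [← conjEnd_mul, mul_inv_cancel, conjEnd_one]))
        (AlgHom.ext fun x => Subtype.ext (by
          show conjEnd G.subtype g⁻¹ (conjEnd G.subtype g (x : Module.End (ZMod p) V)) = x
          rw [← conjEnd_mul, inv_mul_cancel, conjEnd_one]))
      map_one' := AlgEquiv.ext fun x => Subtype.ext (conjEnd_one _ _)
      map_mul' := fun g h => AlgEquiv.ext fun x => Subtype.ext (conjEnd_mul _ g h _) }
  have hψval : ∀ g (x : K), (ψ g x : Module.End (ZMod p) V) = conjEnd G.subtype g x := fun g x => rfl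
  let C := Subgroup.centralizer (A : Set G)
  have hψker : ψ.ker = C := by
    ext g
    rw [MonoidHom.mem_ker, Subgroup.mem_centralizer_iff]
    constructor
    · intro h a ha
      have h1 := congrArg Subtype.val (DFunLike.congr_fun h (⟨τ a, hτmem a ha⟩ : K))
      rw [hψval, conjEnd_toEndHom] at h1
      have h2 := hτinj h1
      calc a * g = g * a * g⁻¹ * g := by rw [h2]
        _ = g * a := by group
    · intro h
      refine AlgEquiv.ext fun x => Subtype.ext ?_
      rw [hψval, conjEnd_apply]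
      have hc := commute_spanAlg G.subtype (g := g) (fun a ha => (h a ha).symm) x.2
      rw [hc.eq, mul_assoc, ← map_mul, mul_inv_cancel, map_one, mul_one]
      rfl
  haveI hCn : C.Normal := hψker ▸ MonoidHom.normal_ker ψ
  have hAC : A ≤ C := fun a ha => Subgroup.mem_centralizer_iff.2 fun b hb => hA b hb a ha
  set s := finrank (ZMod p) K with hsdef
  have hsn : s ≤ finrank (ZMod p) V := by
    refine LinearMap.finrank_le_finrank_of_injective (f := (LinearMap.applyₗ v₀).comp K.val.toLinearMap) ?_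
    intro x y h
    by_contra hne
    obtain ⟨w, hw⟩ := hK.mul_inv_cancel (sub_ne_zero.2 hne)
    have hw' : (w * (x - y) : K) = 1 := by rw [hK.mul_comm, hw]
    have h0 : ((x - y : K) : Module.End (ZMod p) V) v₀ = 0 := by
      show ((x : Module.End (ZMod p) V) - y) v₀ = 0
      rw [LinearMap.sub_apply, sub_eq_zero]
      exact h
    have := congrArg (fun z : K => (z : Module.End (ZMod p) V) v₀) hw'
    simp only [Subalgebra.coe_mul, Module.End.mul_apply, h0, map_zero, Subalgebra.coe_one, Module.End.one_apply] at this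
    exact hv₀ this.symm
  by_cases hCA : C = A
  · have h1 : vp p ψ.ker = 0 := vp_eq_zero fun x hx => by
      have hxA : (x : G) ∈ A := by rw [← hCA, ← hψker]; exact x.2
      exact Subtype.ext (hAp x hxA (by rw [← SubgroupClass.coe_pow, hx]; rfl))
    have h2 : vp p ψ.range < s := by
      refine (vp_le_of_injective (p := p) ψ.range.subtype ψ.range.subtype_injective).trans_lt ?_
      rw [vp, IsGalois.card_aut_eq_finrank, ← hsdef]
      have hs0 : s ≠ 0 := by rw [hsdef]; exact Module.finrank_pos.ne'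
      exact Nat.factorization_lt p hs0
    rw [vp_eq_add ψ, h1, zero_add]
    omega
  -- an elementary section of the centralizer
  set π := QuotientGroup.mk' A with hπ
  haveI : (C.map π).Normal := hCn.map π (QuotientGroup.mk'_surjective A)
  have hD : C.map π ≠ ⊥ := fun h => hCA (le_antisymm (by
    have := (Subgroup.map_eq_bot_iff C).1 h
    rwa [hπ, QuotientGroup.ker_mk'] at this) hAC)
  obtain ⟨q, M, hq, hMn, hMD, hMne, hMcomm, hMexp⟩ := exists_normal_elementary_sub hD
  haveI := hMn
  haveI : Fact q.Prime := ⟨hq⟩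
  set E := M.comap π with hEdef
  haveI hEn : E.Normal := inferInstance
  have hAE : A ≤ E := fun a ha => by
    rw [hEdef, Subgroup.mem_comap, hπ, QuotientGroup.mk'_apply, (QuotientGroup.eq_one_iff a).2 ha]
    exact one_mem M
  have hEC : E ≤ C := fun e he => by
    obtain ⟨c, hc, hce⟩ := hMD he
    obtain ⟨z, hz, rfl⟩ := (QuotientGroup.mk'_eq_mk' A).1 hce
    exact mul_mem hc (hAC hz)
  have hEA : ∀ a ∈ A, ∀ e ∈ E, a * e = e * a := fun a ha e he =>
    Subgroup.mem_centralizer_iff.1 (hEC he) a ha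
  have hcommA : ∀ x ∈ E, ∀ y ∈ E, ⁅x, y⁆ ∈ A := fun x hx y hy => by
    rw [← QuotientGroup.eq_one_iff, ← QuotientGroup.mk'_apply, ← hπ, map_commutatorElement,
      commutatorElement_eq_one_iff_mul_comm]
    exact hMcomm _ hx _ hy
  have hpowA : ∀ x ∈ E, x ^ q ∈ A := fun x hx => by
    rw [← QuotientGroup.eq_one_iff, ← QuotientGroup.mk'_apply, ← hπ, map_pow]
    exact hMexp _ hx
  have hnd : ∀ x ∈ E, (∀ y ∈ E, ⁅x, y⁆ = 1) → x ∈ A := by
    intro x hx h
    have hZ : E ⊓ Subgroup.centralizer (E : Set G) = A := by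
      refine hmax _ inferInstance (fun a ha b hb => ?_) (le_inf hAE fun a ha =>
        Subgroup.mem_centralizer_iff.2 fun e he => (hEA a ha e he).symm)
      exact (Subgroup.mem_centralizer_iff.1 ha.2 b hb.1).symm
    rw [← hZ]
    exact ⟨hx, Subgroup.mem_centralizer_iff.2 fun y hy =>
      (commutatorElement_eq_one_iff_mul_comm.1 (h y hy)).symm⟩
  have hconjpow : ∀ g x c : G, g * x * g⁻¹ = c * x → c * x = x * c → ∀ k : ℕ, g * x ^ k * g⁻¹ = c ^ k * x ^ k :=
    fun g x c h hc k => by rw [← conj_pow, h, (show Commute c x from hc).mul_pow]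
  -- a non-trivial commutator
  obtain ⟨x₀, hx₀, y₀, hy₀, hc₀⟩ : ∃ x ∈ E, ∃ y ∈ E, ⁅x, y⁆ ≠ 1 := by
    by_contra! h
    refine hMne ((Subgroup.eq_bot_iff_forall M).2 fun m hm => ?_)
    obtain ⟨e, rfl⟩ := QuotientGroup.mk'_surjective A m
    have hEA' : E = A := hmax E hEn (fun a ha b hb => commutatorElement_eq_one_iff_mul_comm.1 (h a ha b hb)) hAE
    have he : e ∈ A := hEA' ▸ (show e ∈ E from hm)
    exact (QuotientGroup.eq_one_iff e).2 he
  set c₀ := ⁅x₀, y₀⁆ with hc₀def
  have hc₀A : c₀ ∈ A := hcommA _ hx₀ _ hy₀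
  have hc₀q : c₀ ^ q = 1 := by
    have h1 : x₀ * y₀ * x₀⁻¹ = c₀ * y₀ := by rw [hc₀def, commutatorElement_def]; group
    have h2 := hconjpow x₀ y₀ c₀ h1 (hEA _ hc₀A _ hy₀) q
    rw [← hEA _ (hpowA y₀ hy₀) _ hx₀, mul_inv_cancel_right] at h2
    exact mul_right_cancel (h2.symm.trans (one_mul _).symm)
  have hqp : q ≠ p := fun h => hc₀ (hAp _ hc₀A (h ▸ hc₀q))
  -- matrix units
  let f : E →* Module.End (ZMod p) V := τ.comp E.subtype
  have hKc : ∀ z ∈ K.toSubring, ∀ e, z * f e = f e * z := fun z hz e =>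
    (commute_spanAlg G.subtype (fun a ha => (hEA a ha e e.2).symm) hz).eq.symm
  obtain ⟨d, a', b', i₀, hidx, hzR, hba, hab, hone, hb0, hbb⟩ := exists_matrix_units (A.subgroupOf E) K.toSubring
    hK f (fun a ha => hτmem _ ha) hKc (fun x y => hcommA _ x.2 _ y.2) (fun x h => hnd x x.2 fun y hy => by
      have h1 := h ⟨y, hy⟩
      exact hτinj (h1.trans (map_one τ).symm))
  have hMcard : Nat.card M = d ^ 2 := by
    rw [← hidx]
    have h1 : ((π.comp E.subtype)).ker = A.subgroupOf E := by
      ext e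
      rw [MonoidHom.mem_ker, Subgroup.mem_subgroupOf, MonoidHom.comp_apply, hπ, QuotientGroup.mk'_apply,
        QuotientGroup.eq_one_iff]
      rfl
    have h2 : (π.comp E.subtype).range = M := by
      rw [MonoidHom.range_comp, Subgroup.range_subtype, hEdef,
        Subgroup.map_comap_eq_self_of_surjective (QuotientGroup.mk'_surjective A)]
    rw [← h1, Subgroup.index_ker, h2]
  obtain ⟨r, hr⟩ : ∃ r, Nat.card M = q ^ r := IsPGroup.iff_card.1
    fun x => ⟨1, Subtype.ext (by rw [pow_one, SubgroupClass.coe_pow, hMexp x x.2]; rfl)⟩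
  obtain ⟨a, -, rfl⟩ := (Nat.dvd_prime_pow hq).1 (Dvd.intro_left d ((sq d).symm.trans (hMcard.symm.trans hr)) : d ∣ q ^ r)
  obtain rfl : r = 2 * a := by
    rw [hr, ← pow_mul, mul_comm] at hMcard
    exact Nat.pow_right_injective hq.two_le hMcard
  have ha1 : 1 ≤ a := by
    by_contra h
    obtain rfl : a = 0 := by omega
    exact hMne (Subgroup.card_eq_one.1 (hr.trans (by norm_num)))
  -- the small space
  set W := LinearMap.range (b' i₀) with hWdef
  have hWfix : ∀ w : W, b' i₀ (w : V) = w := by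
    rintro ⟨_, u, rfl⟩
    show b' i₀ (b' i₀ u) = b' i₀ u
    rw [← Module.End.mul_apply, hbb]
  let Φ : V ≃ₗ[ZMod p] (Fin (q ^ a) → W) :=
    { toFun := fun v i => ⟨b' i v, ⟨b' i v, by rw [← Module.End.mul_apply, hb0]⟩⟩
      map_add' := fun x y => funext fun i => Subtype.ext (map_add _ _ _)
      map_smul' := fun c x => funext fun i => Subtype.ext (map_smul _ _ _)
      invFun := fun w => ∑ i, a' i (w i)
      left_inv := fun v => by
        show ∑ i, a' i (b' i v) = v
        simp only [← Module.End.mul_apply, ← LinearMap.sum_apply, hone, Module.End.one_apply]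
      right_inv := fun w => funext fun i => Subtype.ext (by
        show b' i (∑ j, a' j (w j)) = w i
        rw [map_sum, Finset.sum_eq_single i]
        · rw [← Module.End.mul_apply, hba, hWfix]
        · intro j _ hne
          rw [← Module.End.mul_apply, hab i j (Ne.symm hne)]
          rfl
        · exact fun h => absurd (Finset.mem_univ _) h) }
  set m := finrank (ZMod p) W with hmdef
  have hn : finrank (ZMod p) V = q ^ a * m := by
    rw [LinearEquiv.finrank_eq Φ, Module.finrank_pi_fintype, Finset.sum_const, Finset.card_univ,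
      Fintype.card_fin, smul_eq_mul]
  have hKb : ∀ z ∈ K, z * b' i₀ = b' i₀ * z := fun z hz =>
    (hzR z (hKc z hz) (fun c hc => (commute_in_spanAlg G.subtype hA hz hc).eq) i₀).2
  have hnV := Module.finrank_pos (R := ZMod p) (M := V)
  have hm0 : 0 < m := Nat.pos_of_ne_zero fun h => by rw [hn, h, mul_zero] at hnV; exact lt_irrefl _ hnV
  have hsm : s ≤ m := by
    haveI : Nontrivial W := Module.nontrivial_of_finrank_pos hm0
    obtain ⟨w₀, hw₀⟩ := exists_ne (0 : W)
    refine LinearMap.finrank_le_finrank_of_injective (f := LinearMap.codRestrict W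
      ((LinearMap.applyₗ (w₀ : V)).comp K.val.toLinearMap) fun z => ⟨(z : Module.End (ZMod p) V) w₀, by
        show b' i₀ ((z : Module.End (ZMod p) V) w₀) = (z : Module.End (ZMod p) V) w₀
        rw [← Module.End.mul_apply, ← hKb _ z.2, Module.End.mul_apply, hWfix]⟩) ?_
    refine (injective_iff_map_eq_zero _).2 fun x hx => ?_
    by_contra hne
    obtain ⟨w, hw⟩ := hK.mul_inv_cancel hne
    rw [hK.mul_comm] at hw
    have h0 : (x : Module.End (ZMod p) V) (w₀ : V) = 0 := congrArg Subtype.val hx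
    have := congrArg (fun z : K => (z : Module.End (ZMod p) V) (w₀ : V)) hw
    simp only [Subalgebra.coe_mul, Module.End.mul_apply, h0, map_zero, Subalgebra.coe_one, Module.End.one_apply] at this
    exact hw₀ (Subtype.ext this.symm)
  have hd2 : 2 ≤ q ^ a := hq.two_le.trans (Nat.le_self_pow (by omega) q)
  -- the elements centralizing `E`
  set Z := Subgroup.centralizer (E : Set G) with hZdef
  haveI hZn : Z.Normal := Subgroup.normal_centralizer
  have hZbound : vp p Z ≤ m - 1 := by
    have hZs : SS (Z.map G.subtype) := SS.normal hi (Subgroup.map_subtype_le _) (by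
      rintro g hg _ ⟨x, hx, rfl⟩
      exact ⟨_, hZn.conj_mem x hx ⟨g, hg⟩, rfl⟩)
    have hzc : ∀ g ∈ Z, ∀ i, τ g * a' i = a' i * τ g ∧ τ g * b' i = b' i * τ g := fun g hg => by
      refine hzR _ (fun e => ?_) (fun c hc => (commute_spanAlg G.subtype (fun x hx => ?_) hc).eq)
      · show τ g * τ e = τ e * τ g
        rw [← map_mul, ← map_mul, Subgroup.mem_centralizer_iff.1 hg e e.2]
      · exact (Subgroup.mem_centralizer_iff.1 hg x (hAE hx)).symm
    have hWZ : Inv (Z.map G.subtype) W := by
      rintro _ ⟨g, hg, rfl⟩ _ ⟨u, rfl⟩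
      refine ⟨τ g u, ?_⟩
      rw [← Module.End.mul_apply, ← (hzc g hg i₀).2]
      rfl
    haveI : Group.IsSolvable (Z.map G.subtype : Subgroup _) :=
      Group.isSolvable_of_isSolvable_injective (f := Subgroup.inclusion (Subgroup.map_subtype_le Z))
        (Subgroup.inclusion_injective _)
    have h1 := Bound.res ih inferInstance hZs hWZ (by rw [← hmdef, hn]; nlinarith)
    refine le_trans ?_ h1
    refine vp_le_of_injective ((resHom hWZ).rangeRestrict.comp
      (Z.equivMapOfInjective G.subtype G.subtype_injective).toMonoidHom)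
      ((injective_iff_map_eq_one _).2 fun g hg => ?_)
    have hgW : ∀ w : W, τ (g : G) (w : V) = w := fun w => by
      have h := resHom_eq_one hWZ (congrArg Subtype.val hg) w.2
      exact h
    refine Subtype.ext (hτinj (LinearMap.ext fun v => ?_))
    rw [OneMemClass.coe_one, map_one, Module.End.one_apply]
    have hv : v = ∑ i, a' i ((Φ v i : W) : V) := (Φ.left_inv v).symm
    conv_lhs => rw [hv]
    rw [map_sum]
    refine (Finset.sum_congr rfl fun i _ => ?_).trans hv.symm
    rw [← Module.End.mul_apply, (hzc g g.2 i).1, Module.End.mul_apply, hgW]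
  -- action on the section
  let θ : G →* MulAut M := (MulAut.conjNormal : (G ⧸ A) →* MulAut M).comp π
  have hθ : vp p θ.range ≤ (glCard (2 * a) q).factorization p := by
    letI : CommGroup M := { (inferInstance : Group M) with
      mul_comm := fun x y => Subtype.ext (hMcomm _ x.2 _ y.2) }
    refine (vp_le_of_injective (p := p) θ.range.subtype θ.range.subtype_injective).trans (le_of_eq ?_)
    rw [vp, card_mulAut_of_exponent_prime (fun x => Subtype.ext (hMexp x x.2)) hr]
  set K₀ := θ.ker with hK₀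
  have hK₀E : ∀ g ∈ K₀, ∀ e ∈ E, ⁅g, e⁆ ∈ A := fun g hg e he => by
    rw [← QuotientGroup.eq_one_iff, ← QuotientGroup.mk'_apply, ← hπ, map_commutatorElement, commutatorElement_def,
      mul_inv_eq_one]
    exact congrArg Subtype.val (DFunLike.congr_fun (MonoidHom.mem_ker.1 hg) (⟨π e, he⟩ : M))
  let ψ₀ : K₀ →* (K ≃ₐ[ZMod p] K) := ψ.comp K₀.subtype
  have hfix : ∀ g ∈ K₀, g * c₀ * g⁻¹ = c₀ := fun g hg => by
    have hx := hK₀E g hg _ hx₀
    have hy := hK₀E g hg _ hy₀
    have e1 : g * x₀ * g⁻¹ = ⁅g, x₀⁆ * x₀ := by rw [commutatorElement_def]; group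
    have e2 : g * y₀ * g⁻¹ = ⁅g, y₀⁆ * y₀ := by rw [commutatorElement_def]; group
    have e3 : g * c₀ * g⁻¹ = ⁅g * x₀ * g⁻¹, g * y₀ * g⁻¹⁆ := by
      rw [hc₀def]; simp only [commutatorElement_def]; group
    rw [e3, e1, e2, hEA _ hy _ hy₀, commutatorElement_mem_centre_mul_right (hEA _ hy _ (mul_mem (hAE hx) hx₀)),
      hEA _ hx _ hx₀, commutatorElement_mem_centre_mul_left (hEA _ hx _ hy₀)]
  set F : IntermediateField (ZMod p) K := IntermediateField.fixedField ψ₀.range with hF
  have hu : finrank F K = Nat.card ψ₀.range := IntermediateField.finrank_fixedField_eq_card _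
  have hs0u : finrank (ZMod p) F * Nat.card ψ₀.range = s := by
    rw [← hu, Module.finrank_mul_finrank]
  let k₀ : K := ⟨τ c₀, hτmem _ hc₀A⟩
  have hk₀F : k₀ ∈ F := by
    rw [hF]
    intro φ
    obtain ⟨g, hg⟩ := φ.2
    show (φ : K ≃ₐ[ZMod p] K) k₀ = k₀
    rw [← hg]
    refine Subtype.ext ?_
    show conjEnd G.subtype (g : G) (τ c₀) = τ c₀
    rw [conjEnd_toEndHom, hfix g g.2]
  have hdiv : q ∣ p ^ finrank (ZMod p) F - 1 := by
    haveI : Finite F := Finite.of_injective (Subtype.val : F → K) Subtype.val_injective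
    have hk1 : (⟨k₀, hk₀F⟩ : F) ≠ 0 := fun h => by
      have h1 : τ c₀ = 0 := congrArg Subtype.val (congrArg Subtype.val h)
      have h2 : τ (c₀ * c₀⁻¹) = 0 := by rw [map_mul, h1, zero_mul]
      rw [mul_inv_cancel, map_one] at h2
      exact hv₀ (DFunLike.congr_fun h2 v₀)
    letI := Fintype.ofFinite F
    have hord : orderOf (⟨k₀, hk₀F⟩ : F) = q := by
      refine orderOf_eq_prime ?_ ?_
      · exact Subtype.ext (Subtype.ext (by
          show τ c₀ ^ q = 1
          rw [← map_pow, hc₀q, map_one]))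
      · intro h
        exact hc₀ (hτinj ((congrArg Subtype.val (congrArg Subtype.val h) : τ c₀ = _).trans (map_one τ).symm))
    rw [← hord]
    refine orderOf_dvd_of_pow_eq_one ?_
    have hcF : Fintype.card F = p ^ finrank (ZMod p) F := by
      rw [Module.card_eq_pow_finrank (K := ZMod p), ZMod.card]
    rw [← hcF]
    exact FiniteField.pow_card_sub_one_eq_one _ hk1
  -- the part centralizing `A`
  have hker0 : vp p ψ₀.ker ≤ m - 1 := by
    have hmemC : ∀ g : ψ₀.ker, ((g : K₀) : G) ∈ C := fun g => by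
      rw [← hψker]; exact g.2
    have hcom : ∀ (g : ψ₀.ker) (e : E), ⁅((g : K₀) : G), (e : G)⁆ ∈ A := fun g e => hK₀E _ (g : K₀).2 _ e.2
    letI : CommGroup A := { (inferInstance : Group A) with
      mul_comm := fun x y => Subtype.ext (hA _ x.2 _ y.2) }
    let χ : ψ₀.ker →* (E → A) :=
      { toFun := fun g e => ⟨⁅((g : K₀) : G), (e : G)⁆, hcom g e⟩
        map_one' := funext fun e => Subtype.ext (commutatorElement_one_left _)
        map_mul' := fun g h => funext fun e => Subtype.ext (by
          show ⁅((g : K₀) : G) * ((h : K₀) : G), (e : G)⁆ = ⁅((g : K₀) : G), (e : G)⁆ * ⁅((h : K₀) : G), (e : G)⁆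
          exact commutatorElement_mul_left_of_central
            (Subgroup.mem_centralizer_iff.1 (hmemC g) _ (hcom h e)).symm (hA _ (hcom g e) _ (hcom h e))) }
    have hexp : ∀ g : ψ₀.ker, χ g ^ q = 1 := fun g => funext fun e => Subtype.ext (by
      show ⁅((g : K₀) : G), (e : G)⁆ ^ q = 1
      have h1 : ((g : K₀) : G) * (e : G) * ((g : K₀) : G)⁻¹ = ⁅((g : K₀) : G), (e : G)⁆ * e := by
        rw [commutatorElement_def]; group
      have h2 := hconjpow _ _ _ h1 (hEA _ (hcom g e) _ e.2) q
      rw [← Subgroup.mem_centralizer_iff.1 (hmemC g) _ (hpowA _ e.2), mul_inv_cancel_right] at h2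
      exact mul_right_cancel (h2.symm.trans (one_mul _).symm))
    have h0 : vp p χ.range = 0 := vp_eq_zero fun x hx => by
      obtain ⟨g, hg⟩ := x.2
      have h1 : x ^ q = 1 := Subtype.ext (by rw [SubgroupClass.coe_pow, ← hg, hexp]; rfl)
      have h2 := Nat.eq_one_of_dvd_coprimes ((Nat.coprime_primes hq hp).2 hqp)
        (orderOf_dvd_of_pow_eq_one h1) (orderOf_dvd_of_pow_eq_one hx)
      exact orderOf_eq_one_iff.1 h2
    rw [vp_eq_add χ, h0, add_zero]
    refine le_trans ?_ hZbound
    refine vp_le_of_injective ((K₀.subtype.comp (ψ₀.ker.subtype.comp χ.ker.subtype)).codRestrict Z fun g => ?_) ?_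
    · refine Subgroup.mem_centralizer_iff.2 fun e he => ?_
      have h1 := congrArg Subtype.val (congrFun (MonoidHom.mem_ker.1 g.2) ⟨e, he⟩)
      exact (commutatorElement_eq_one_iff_mul_comm.1 h1).symm
    · intro g h hgh
      exact Subtype.ext (Subtype.ext (Subtype.ext (congrArg Subtype.val hgh :)))
  have hrange : vp p ψ₀.range ≤ Nat.card ψ₀.range - 1 := by
    have := Nat.factorization_lt p (Nat.card_pos (α := ψ₀.range)).ne'
    rw [vp]; omega
  have hs0 : 1 ≤ finrank (ZMod p) F := Module.finrank_pos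
  have hgl := factorization_glCard_le hp hq hqp.symm ha1 hs0 hdiv
  have hu1 : 1 ≤ Nat.card ψ₀.range := Nat.card_pos
  rw [vp_eq_add θ, ← hK₀, vp_eq_add ψ₀, hn]
  obtain ⟨d', hd'⟩ : ∃ d', q ^ a = d' + 1 := ⟨q ^ a - 1, by omega⟩
  obtain ⟨m', hm'⟩ : ∃ m', m = m' + 1 := ⟨m - 1, by omega⟩
  obtain ⟨u', hu'⟩ : ∃ u', Nat.card ψ₀.range = u' + 1 := ⟨Nat.card ψ₀.range - 1, by omega⟩
  rw [hd', Nat.add_sub_cancel] at hgl
  rw [hm', Nat.add_sub_cancel] at hker0
  rw [hu', Nat.add_sub_cancel] at hrange
  rw [hu'] at hs0u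
  rw [hd', hm', show (d' + 1) * (m' + 1) = d' * (m' + 1) + m' + 1 by ring, Nat.add_sub_cancel]
  have h1 : finrank (ZMod p) F * (u' + 1) ≤ m' + 1 := hs0u.trans_le (hm' ▸ hsm)
  have hd1 : 1 ≤ d' := by omega
  nlinarith [Nat.mul_le_mul_left d' h1, Nat.mul_le_mul (Nat.mul_le_mul hd1 hs0) (le_refl u')]

theorem bound : ∀ n, Bound.{v} p n := by
  intro n
  induction n using Nat.strong_induction_on with
  | _ n ih =>
  intro V _ _ _ hn G hs hss
  subst hn
  by_cases hne : Nontrivial V
  swap
  · haveI := not_nontrivial_iff_subsingleton.1 hne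
    haveI : Subsingleton G := ⟨fun g h => Subtype.ext (LinearEquiv.ext fun v => Subsingleton.elim _ _)⟩
    simp [vp, Nat.card_of_subsingleton (1 : G)]
  by_cases hi : Irr G
  · obtain ⟨A, ⟨hAn, hA⟩, hmax⟩ := exists_maximal_normal_abelian (G := G)
    haveI := hAn
    rcases field_or_blocks hi A hA with h | ⟨ι, _, W, σ, r, h1, h2, h3, h4, h5, h6⟩
    · exact field_bound G hs hi ih A hA hmax h
    · exact blocks_bound G hs hi ih W σ r h1 h2 h3 h4 h5 h6
  · simp only [Irr, not_forall, not_or] at hi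
    obtain ⟨W, hW, h0, h1⟩ := hi
    exact reducible_bound G hs hss ih hW h0 h1

/-- The order of a solvable irreducible subgroup of `GL(V)` is not divisible by the order of `V`. -/
theorem not_card_dvd_of_irreducible [Nontrivial V] (G : Subgroup (V ≃ₗ[ZMod p] V)) (hs : Group.IsSolvable G)
    (hi : Irr G) : ¬ Nat.card V ∣ Nat.card G := by
  intro h
  have hss : SS G := fun W hW => by
    rcases hi W hW with rfl | rfl
    · exact ⟨⊤, fun _ _ _ _ => Submodule.mem_top, isCompl_bot_top⟩
    · exact ⟨⊥, fun g _ w hw => by rw [Submodule.mem_bot] at hw ⊢; rw [hw, map_zero], isCompl_top_bot⟩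
  have h1 := bound.{v} (finrank (ZMod p) V) V rfl G hs hss
  rw [Module.natCard_eq_pow_finrank (K := ZMod p), Nat.card_zmod,
    (Fact.out : p.Prime).pow_dvd_iff_le_factorization Nat.card_pos.ne'] at h
  have hn := Module.finrank_pos (R := ZMod p) (M := V)
  rw [vp] at h1
  omega

end CfsgLib.Char.Berger
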