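import Cfsg.Agent.Lib.Char.Berger.Linear
import Cfsg.Agent.Lib.Char.Correspondence

/-!
Berger's theorem: quasi-primitive characters of solvable groups are primitive.
-/

set_option autoImplicit false
set_option linter.unusedSectionVars false
set_option linter.style.haveILetI false

namespace CfsgLib.Char.Berger

open scoped ComplexConjugate commutatorElement
open Cfsg

universe u

variable {G : Type u} [Group G] [Fintype G]

/-- automorphisms of a group of exponent `p` are linear -/
def toLin (p : ℕ) [Fact p.Prime] (M : Type*) [CommGroup M] [Module (ZMod p) (Additive M)] :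
    MulAut M →* (Additive M ≃ₗ[ZMod p] Additive M) where
  toFun f :=
    { toFun := fun x => Additive.ofMul (f x.toMul)
      map_add' := fun x y => congrArg Additive.ofMul (map_mul f x.toMul y.toMul)
      map_smul' := fun c x => ZMod.map_smul
        ({ toFun := fun x => Additive.ofMul (f x.toMul)
           map_zero' := congrArg Additive.ofMul (map_one f)
           map_add' := fun x y => congrArg Additive.ofMul (map_mul f x.toMul y.toMul) } : Additive M →+ Additive M)
        c x
      invFun := fun x => Additive.ofMul (f.symm x.toMul)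
      left_inv := fun x => congrArg Additive.ofMul (f.symm_apply_apply _)
      right_inv := fun x => congrArg Additive.ofMul (f.apply_symm_apply _) }
  map_one' := LinearEquiv.ext fun _ => rfl
  map_mul' _ _ := LinearEquiv.ext fun _ => rfl

/-- a solvable group acting irreducibly on an abelian group of exponent `p` -/
theorem not_dvd_of_module_action {p : ℕ} [Fact p.Prime] {M : Type u} [CommGroup M] [Finite M] [Nontrivial M]
    [Module (ZMod p) (Additive M)] {H : Type*} [Group H] [Finite H] [Group.IsSolvable H] (cj : H →* MulAut M)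
    (hirr : ∀ U : Subgroup M, (∀ h, ∀ u ∈ U, cj h u ∈ U) → U = ⊥ ∨ U = ⊤) :
    ¬ Nat.card M ∣ Nat.card cj.range := by
  haveI : Finite (Additive M) := Finite.of_equiv M Additive.ofMul
  haveI : Nontrivial (Additive M) := Additive.ofMul.symm.nontrivial
  intro hd
  have hi : Irr ((toLin p M).comp cj).range := by
    intro W hW
    let U : Subgroup M :=
      { carrier := {x | Additive.ofMul x ∈ W}
        one_mem' := zero_mem W
        mul_mem' := fun {a b} ha hb => add_mem (s := W) ha hb
        inv_mem' := fun {a} ha => neg_mem (s := W) ha }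
    rcases hirr U (fun h u hu => hW _ ⟨h, rfl⟩ _ hu) with hU | hU
    · refine Or.inl ((Submodule.eq_bot_iff W).2 fun w hw => ?_)
      have hmem : w.toMul ∈ U := hw
      rw [hU, Subgroup.mem_bot] at hmem
      exact congrArg Additive.ofMul hmem
    · refine Or.inr (eq_top_iff.2 fun w _ => ?_)
      exact (hU ▸ Subgroup.mem_top w.toMul : w.toMul ∈ U)
  refine not_card_dvd_of_irreducible ((toLin p M).comp cj).range
    (Group.isSolvable_of_surjective ((toLin p M).comp cj).rangeRestrict_surjective) hi ?_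
  have hk : ((toLin p M).comp cj).ker = cj.ker := by
    ext h
    refine ⟨fun hh => MulEquiv.ext fun x => ?_, fun hh => ?_⟩
    · exact congrArg Additive.toMul (DFunLike.congr_fun hh (Additive.ofMul x))
    · rw [MonoidHom.mem_ker, MonoidHom.comp_apply, MonoidHom.mem_ker.1 hh, map_one]
  rwa [Nat.card_congr Additive.toMul, ← Subgroup.index_ker, hk, Subgroup.index_ker]

theorem not_dvd_of_action {p : ℕ} [Fact p.Prime] {M : Type u} [CommGroup M] [Finite M] [Nontrivial M]
    (hexp : ∀ x : M, x ^ p = 1) {H : Type*} [Group H] [Finite H] [Group.IsSolvable H] (cj : H →* MulAut M)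
    (hirr : ∀ U : Subgroup M, (∀ h, ∀ u ∈ U, cj h u ∈ U) → U = ⊥ ∨ U = ⊤) :
    ¬ Nat.card M ∣ Nat.card cj.range :=
  @not_dvd_of_module_action p _ M _ _ _
    (AddCommGroup.zmodModule fun a => congrArg Additive.ofMul (hexp a.toMul)) H _ _ _ cj hirr

theorem irr_smul_eq {H : Type u} [Group H] [Fintype H] {θ φ : H → ℂ} (hθ : IsIrrCharacter H θ)
    (hφ : IsIrrCharacter H φ) {a b : ℂ} (ha : a ≠ 0) (h : a • θ = b • φ) : θ = φ := by
  by_contra hne
  have h1 := classInner_irr_self ⟨θ, hθ⟩
  have h2 : classInner (a • θ) θ = classInner (b • φ) θ := by rw [h]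
  have h3 : classInner φ θ = 0 := classInner_irr_ne (χ := ⟨φ, hφ⟩) (ψ := ⟨θ, hθ⟩)
    fun e => hne (congrArg Subtype.val e).symm
  rw [classInner_smul_left, classInner_smul_left, h1, mul_one, h3, mul_zero] at h2
  exact ha h2

/-- the squared degree ratio divides the index along normal subgroups with abelian steps -/
theorem ratio_sq [Group.IsSolvable G] (χ : G → ℂ) (hχ : IsIrrCharacter G χ)
    (hqp : ∀ N : Subgroup G, N.Normal → ∃ (ϑ : N → ℂ) (e : ℕ),
      IsIrrCharacter N ϑ ∧ (fun n : N => χ n) = (e : ℂ) • ϑ)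
    (L : Subgroup G) [L.Normal] {φ : L → ℂ} (hφ : IsIrrCharacter L φ) {eL : ℕ}
    (hL : (fun n : L => χ n) = (eL : ℂ) • φ) :
    ∀ n, ∀ N : Subgroup G, N.Normal → L ≤ N → Nat.card N = n → ∀ (θ : N → ℂ) (e : ℕ), IsIrrCharacter N θ →
      (fun x : N => χ x) = (e : ℂ) • θ → ∃ k : ℕ, θ 1 = (k : ℂ) * φ 1 ∧ k ^ 2 ∣ L.relIndex N := by
  classical
  have hχ1 : χ 1 ≠ 0 := irr_one_ne_zero ⟨χ, hχ⟩
  have hne : ∀ (N : Subgroup G) (θ : N → ℂ) (e : ℕ), (fun x : N => χ x) = (e : ℂ) • θ → (e : ℂ) ≠ 0 :=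
    fun N θ e h h0 => hχ1 (by
      have := congrFun h 1
      simpa [h0] using this)
  intro n
  induction n using Nat.strong_induction_on with
  | _ n ih =>
  intro N hN hLN hn θ e hθ he
  rcases eq_or_lt_of_le hLN with rfl | hlt
  · refine ⟨1, ?_, by simp⟩
    letI := Fintype.ofFinite L
    have h := irr_smul_eq hθ hφ (hne L θ e he) (he.symm.trans hL)
    rw [h, Nat.cast_one, one_mul]
  haveI := hN
  set N' := ⁅N, N⁆ ⊔ L with hN'
  haveI : N'.Normal := inferInstance
  have hN'le : N' ≤ N := sup_le (Subgroup.commutator_le_self N) hLN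
  have hN'lt : N' < N := by
    refine lt_of_le_of_ne hN'le fun heq => hlt.ne ?_
    set π := QuotientGroup.mk' L
    have h1 : ⁅N.map π, N.map π⁆ = N.map π := by
      conv_rhs => rw [← heq, hN', Subgroup.map_sup, Subgroup.map_commutator,
        (Subgroup.map_eq_bot_iff L).2 (QuotientGroup.ker_mk' L).ge, sup_bot_eq]
    by_contra hLne
    haveI : Group.IsSolvable (G ⧸ L) := Group.isSolvable_of_surjective (QuotientGroup.mk'_surjective L)
    obtain ⟨k, hk⟩ := (Group.isSolvable_def (G ⧸ L)).1 inferInstance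
    have hle : ∀ i, N.map π ≤ derivedSeries (G ⧸ L) i := by
      intro i
      induction i with
      | zero => exact le_top
      | succ i ih => rw [derivedSeries_succ, ← h1]; exact Subgroup.commutator_mono ih ih
    have hb := hle k
    rw [hk, le_bot_iff, Subgroup.map_eq_bot_iff, QuotientGroup.ker_mk'] at hb
    exact hLne (le_antisymm hLN hb)
  obtain ⟨θ', e', hθ', he'⟩ := hqp N' inferInstance
  have hcard : Nat.card N' < n := hn ▸ Set.Finite.card_lt_card (Set.toFinite _) (SetLike.coe_ssubset_coe.2 hN'lt)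
  obtain ⟨k', hk', hdvd⟩ := ih _ hcard N' inferInstance le_sup_right rfl θ' e' hθ' he'
  -- inside `N`
  set M := N'.subgroupOf N with hM
  haveI : M.Normal := inferInstance
  letI := Fintype.ofFinite M
  letI := Fintype.ofFinite N'
  let em : M ≃* N' := Subgroup.subgroupOfEquivOfLe hN'le
  have hθM : IsIrrCharacter M (fun x => θ' (em x)) :=
    isIrrCharacter_comp_surjective hθ' em.toMonoidHom em.surjective
  have hinvG : ∀ g : G, conjFun N' θ' g = θ' := invariant_of_restrict_eq_smul N' hχ hθ' (by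
    rw [he', classInner_smul_left, classInner_irr_self ⟨θ', hθ'⟩, mul_one]
    exact hne N' θ' e' he') he'
  have hinv : ∀ g : N, conjFun M (fun x => θ' (em x)) g = fun x => θ' (em x) := fun g => funext fun x =>
    congrFun (hinvG (g : G)) (em x)
  obtain ⟨e₁, C, -, -, hidx, hmem, hC⟩ := invariant_abelian_decomp M hθM hinv fun x y => by
    rw [hM, Subgroup.mem_subgroupOf]
    show ⁅(x : G), (y : G)⁆ ∈ N'
    exact le_sup_left (a := ⁅N, N⁆) (b := L) (Subgroup.commutator_mem_commutator x.2 y.2)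
  have hres : (fun x : M => θ x) = ((e' : ℂ) / e) • fun x => θ' (em x) := funext fun x => by
    have h1 := congrFun he (x : N)
    have h2 := congrFun he' (em x)
    simp only [Pi.smul_apply, smul_eq_mul] at h1 h2 ⊢
    have h3 : (((em x : N') : G)) = ((x : N) : G) := rfl
    rw [h3] at h2
    rw [h2] at h1
    rw [div_mul_eq_mul_div, eq_div_iff (hne N θ e he), h1, mul_comm]
  have hθC : (⟨θ, hθ⟩ : IrrCharacter N) ∈ C := (hmem _).2 (by
    show classInner (fun x : M => θ x) _ ≠ 0
    rw [hres, classInner_smul_left, classInner_irr_self ⟨_, hθM⟩, mul_one]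
    exact div_ne_zero (hne N' θ' e' he') (hne N θ e he))
  refine ⟨e₁ * k', ?_, ?_⟩
  · rw [show θ 1 = _ from (hC _ hθC).1, Nat.cast_mul, mul_assoc, ← hk', map_one]
  · rw [mul_pow, ← Subgroup.relIndex_mul_relIndex L N' N le_sup_right hN'le, mul_comm]
    refine Nat.mul_dvd_mul hdvd (dvd_trans (Dvd.intro _ hidx) ?_)
    rfl

theorem not_induced [Group.IsSolvable G] (χ : G → ℂ) (hχ : IsIrrCharacter G χ)
    (hqp : ∀ N : Subgroup G, N.Normal → ∃ (ϑ : N → ℂ) (e : ℕ),
      IsIrrCharacter N ϑ ∧ (fun n : N => χ n) = (e : ℂ) • ϑ)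
    (H : Subgroup G) (hH : IsCoatom H) (ψ : H → ℂ) (hψ : IsCharacter H ψ) : indFun H ψ ≠ χ := by
  classical
  intro hind
  set L := H.normalCore
  have hLH : L ≤ H := H.normalCore_le
  set π := QuotientGroup.mk' L with hπ
  have hπs : Function.Surjective π := QuotientGroup.mk'_surjective L
  haveI : Group.IsSolvable (G ⧸ L) := Group.isSolvable_of_surjective hπs
  have hnt : (⊤ : Subgroup (G ⧸ L)) ≠ ⊥ := fun h => hH.1 (top_le_iff.1 fun g _ => hLH (by
    have hg : π g ∈ (⊤ : Subgroup (G ⧸ L)) := Subgroup.mem_top _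
    rw [h, Subgroup.mem_bot] at hg
    exact (QuotientGroup.eq_one_iff g).1 hg))
  obtain ⟨p, E, hp, hEn, -, hE0, hEc, hEp⟩ := exists_normal_elementary_sub hnt
  haveI := Fact.mk hp
  obtain ⟨Mb, hMbE, hMb⟩ := exists_minimal_le_of_wellFoundedLT
    (fun X : Subgroup (G ⧸ L) => X ≠ ⊥ ∧ X.Normal) E ⟨hE0, hEn⟩
  obtain ⟨⟨hMb0, hMbn⟩, hmin⟩ := hMb
  haveI := hMbn
  have hMc : ∀ a ∈ Mb, ∀ b ∈ Mb, a * b = b * a := fun a ha b hb => hEc a (hMbE ha) b (hMbE hb)
  set M := Mb.comap π with hM
  haveI : M.Normal := inferInstance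
  have hLM : L ≤ M := fun l hl => by
    show π l ∈ Mb
    rw [show π l = 1 from (QuotientGroup.eq_one_iff l).2 hl]; exact one_mem _
  have hMsup : H ⊔ M = ⊤ := hH.2 _ (lt_of_le_of_ne le_sup_left fun h => hMb0 (by
    have hMH : M ≤ H := h ▸ le_sup_right
    have h1 : M ≤ L := Subgroup.normal_le_normalCore.2 hMH
    rw [← Subgroup.map_comap_eq_self_of_surjective hπs Mb, Subgroup.map_eq_bot_iff, QuotientGroup.ker_mk']
    exact h1))
  -- subgroups of `M` containing `L` normalized by `H` are normal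
  have hnorm : ∀ U : Subgroup (G ⧸ L), (∀ u ∈ U, ∀ m ∈ Mb, m * u = u * m) →
      (∀ h ∈ H, ∀ u ∈ U, π h * u * (π h)⁻¹ ∈ U) → U.Normal := by
    intro U h1 h2
    refine ⟨fun u hu g => ?_⟩
    obtain ⟨g, rfl⟩ := hπs g
    obtain ⟨a, ha, b, hb, rfl⟩ := Subgroup.mem_sup_of_normal_right.1 (hMsup.ge (Subgroup.mem_top g))
    rw [map_mul, show π a * π b * u * (π a * π b)⁻¹ = π a * (π b * u * (π b)⁻¹) * (π a)⁻¹ by group,
      show π b * u * (π b)⁻¹ = u by rw [h1 u hu _ hb, mul_inv_cancel_right]]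
    exact h2 a ha u hu
  have hHM : H.map π ⊓ Mb = ⊥ := by
    by_contra h
    have hn : (H.map π ⊓ Mb).Normal := hnorm _ (fun u hu m hm => hMc m hm u hu.2) (by
      rintro a ha _ ⟨⟨c, hc, rfl⟩, hu⟩
      exact ⟨⟨a * c * a⁻¹, mul_mem (mul_mem ha hc) (inv_mem ha), by simp⟩, hMbn.conj_mem _ hu _⟩)
    have h3 := hmin ⟨h, hn⟩ inf_le_right
    refine hMb0 ((Subgroup.eq_bot_iff_forall _).2 fun x hx => ?_)
    obtain ⟨g, rfl⟩ := hπs x
    refine (QuotientGroup.eq_one_iff g).2 ?_
    have hMH : M ≤ H := fun m hm => by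
      obtain ⟨c, hc, hce⟩ := (h3 hm).1
      obtain ⟨z, hz, rfl⟩ := (QuotientGroup.mk'_eq_mk' L).1 hce
      exact mul_mem hc (hLH hz)
    exact Subgroup.normal_le_normalCore.2 hMH hx
  -- the linear group
  letI : CommGroup Mb := { (inferInstance : Group Mb) with mul_comm := fun a b => Subtype.ext (hMc _ a.2 _ b.2) }
  let cj : H →* MulAut Mb := (MulAut.conjNormal : (G ⧸ L) →* MulAut Mb).comp (π.comp H.subtype)
  have hcj : ∀ (h : H) (x : Mb), (cj h x : G ⧸ L) = π h * (x : G ⧸ L) * (π h)⁻¹ := fun h x => rfl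
  haveI : Nontrivial Mb := (Subgroup.nontrivial_iff_ne_bot Mb).2 hMb0
  have hirr : ∀ W : Subgroup Mb, (∀ h, ∀ w ∈ W, cj h w ∈ W) → W = ⊥ ∨ W = ⊤ := by
    intro W hW
    have hUM : W.map Mb.subtype ≤ Mb := Subgroup.map_subtype_le _
    have hUn : (W.map Mb.subtype).Normal := hnorm _ (fun u hu m hm => hMc m hm u (hUM hu)) (by
      rintro h hh _ ⟨w, hw, rfl⟩
      exact ⟨cj ⟨h, hh⟩ w, hW _ w hw, hcj _ _⟩)
    by_cases hU : W.map Mb.subtype = ⊥
    · exact Or.inl ((Subgroup.map_eq_bot_iff_of_injective _ Mb.subtype_injective).1 hU)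
    · refine Or.inr (eq_top_iff.2 fun w _ => ?_)
      obtain ⟨w', hw', he⟩ := hmin ⟨hU, hUn⟩ hUM w.2
      rwa [← Subtype.ext he]
  -- kernel
  have hker : cj.ker = L.subgroupOf H := by
    ext h
    rw [MonoidHom.mem_ker, Subgroup.mem_subgroupOf]
    constructor
    · intro hh
      set D := Subgroup.centralizer (Mb : Set (G ⧸ L)) ⊓ H.map π with hD
      have hDn : D.Normal := hnorm D
        (fun u hu m hm => Subgroup.mem_centralizer_iff.1 hu.1 m hm)
        (fun a ha u hu => ⟨(Subgroup.normal_centralizer (H := Mb)).conj_mem _ hu.1 _, by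
          obtain ⟨c, hc, rfl⟩ := hu.2
          exact ⟨a * c * a⁻¹, mul_mem (mul_mem ha hc) (inv_mem ha), by simp⟩⟩)
      have hDH : D.comap π ≤ H := fun g hg => by
        obtain ⟨c, hc, hce⟩ := hg.2
        obtain ⟨z, hz, rfl⟩ := (QuotientGroup.mk'_eq_mk' L).1 hce
        exact mul_mem hc (hLH hz)
      refine Subgroup.normal_le_normalCore.2 hDH (show π h ∈ D from ⟨?_, ⟨h, h.2, rfl⟩⟩)
      refine Subgroup.mem_centralizer_iff.2 fun m hm => ?_
      have h1 : π h * m * (π h)⁻¹ = m := by
        have := congrArg Subtype.val (DFunLike.congr_fun hh (⟨m, hm⟩ : Mb))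
        exact (hcj h _).symm.trans this
      calc m * π h = π h * m * (π h)⁻¹ * π h := by rw [h1]
        _ = π h * m := by group
    · intro hh
      refine MulEquiv.ext fun x => Subtype.ext ?_
      rw [hcj, show π h = 1 from (QuotientGroup.eq_one_iff _).2 hh, one_mul, inv_one, mul_one]
      rfl
  refine not_dvd_of_action (fun x => Subtype.ext (hEp _ (hMbE x.2))) cj hirr ?_
  -- degrees
  obtain ⟨φ, eL, hφ, heL⟩ := hqp L inferInstance
  letI := Fintype.ofFinite L
  letI := Fintype.ofFinite H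
  have heL0 : (eL : ℂ) ≠ 0 := fun h0 => irr_one_ne_zero ⟨χ, hχ⟩ (by
    have := congrFun heL 1
    simpa [h0] using this)
  obtain ⟨s, hs⟩ : ∃ s : ℕ, (fun l : L => ψ ⟨l, hLH l.2⟩) = (s : ℂ) • φ := by
    have hres : IsCharacter L (fun l : L => ψ ⟨l, hLH l.2⟩) := isCharacter_comp hψ (Subgroup.inclusion hLH)
    obtain ⟨s, hs⟩ := classInner_isCharacter hres (isCharacter_of_isIrr hφ)
    refine ⟨s, classFun_ext (isClassFunction_of_isCharacter hres)
      (fun a b => by simp [isClassFunction_of_isCharacter (isCharacter_of_isIrr hφ) a b]) fun θ => ?_⟩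
    rw [classInner_smul_left]
    by_cases hθ : (θ : L → ℂ) = φ
    · rw [hθ, classInner_irr_self ⟨φ, hφ⟩, mul_one]
      exact hs
    · rw [classInner_irr_ne (χ := ⟨φ, hφ⟩) (ψ := θ) (fun e => hθ (congrArg Subtype.val e).symm), mul_zero]
      -- the constituents of the induced character cover those of `ψ`
      have hval : ∀ g : G, IsCharacter L (fun l : L => ψ ⟨g⁻¹ * l * g, hLH (by
          simpa using (inferInstance : L.Normal).conj_mem _ l.2 g⁻¹)⟩) := fun g => by
        have := isCharacter_comp hres (normalConjHom L g⁻¹)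
        convert this using 2 with l
        simp [normalConjHom]
      have hsum : (fun l : L => χ l) = (Nat.card H : ℂ)⁻¹ • ∑ g : G, fun l : L => ψ ⟨g⁻¹ * l * g, hLH (by
          simpa using (inferInstance : L.Normal).conj_mem _ l.2 g⁻¹)⟩ := funext fun l => by
        rw [← hind, Pi.smul_apply, Finset.sum_apply, smul_eq_mul, indFun]
        refine congrArg _ (Finset.sum_congr rfl fun g _ => ?_)
        rw [extendByZero_mem]
      have h0 : classInner (fun l : L => χ l) (θ : L → ℂ) = 0 := by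
        rw [heL, classInner_smul_left,
          classInner_irr_ne (χ := ⟨φ, hφ⟩) (ψ := θ) (fun e => hθ (congrArg Subtype.val e).symm), mul_zero]
      rw [hsum, classInner_smul_left, classInner_sum_left, mul_eq_zero] at h0
      choose a ha using fun g => classInner_isCharacter (hval g) (isCharacter_irr θ)
      rw [Finset.sum_congr rfl fun g _ => ha g, ← Nat.cast_sum, Nat.cast_eq_zero] at h0
      rcases h0 with h0 | h0
      · exact absurd h0 (inv_ne_zero (by exact_mod_cast Nat.card_pos.ne'))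
      · have h1 := (Finset.sum_eq_zero_iff.1 h0) 1 (Finset.mem_univ _)
        have h2 := ha 1
        rw [h1, Nat.cast_zero] at h2
        convert h2 using 3 with l
        exact congrArg ψ (Subtype.ext (by simp))
  obtain ⟨k, hk, hkdvd⟩ := ratio_sq χ hχ hqp L hφ heL _ ⊤ inferInstance le_top rfl (fun x => χ x) 1
    (isIrrCharacter_comp_surjective hχ (⊤ : Subgroup G).subtype fun g => ⟨⟨g, Subgroup.mem_top g⟩, rfl⟩)
    (by rw [Nat.cast_one, one_smul])
  rw [Subgroup.relIndex_top_right] at hkdvd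
  have hψ1 : ψ 1 = (s : ℂ) * φ 1 := congrFun hs 1
  have hχk : χ 1 = (k : ℂ) * φ 1 := hk
  have h2 : χ 1 = (H.index : ℂ) * ψ 1 := by rw [← hind, indFun_one]
  have hk' : k = H.index * s := by
    have h := h2
    rw [hχk, hψ1, ← mul_assoc] at h
    exact_mod_cast mul_right_cancel₀ (irr_one_ne_zero ⟨φ, hφ⟩) h
  -- orders
  have hHL : Nat.card H = Nat.card L * Nat.card cj.range := by
    rw [← cj.ker.card_mul_index, Subgroup.index_ker, hker, Nat.card_congr (Subgroup.subgroupOfEquivOfLe hLH).toEquiv]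
  have hHimg : Nat.card H = Nat.card L * Nat.card (H.map π) := by
    rw [card_eq_card_map_mul hLH, mul_comm]
  have hGL : Nat.card (G ⧸ L) = Nat.card (H.map π) * Nat.card Mb := by
    have h1 : H.map π ⊔ Mb = ⊤ := by
      rw [← Subgroup.map_comap_eq_self_of_surjective hπs Mb, ← Subgroup.map_sup, ← hM, hMsup,
        Subgroup.map_top_of_surjective _ hπs]
    exact (Subgroup.isComplement'_of_disjoint_and_mul_eq_univ (disjoint_iff.2 hHM) (by
      rw [← Subgroup.mul_normal, h1, Subgroup.coe_top])).card_mul.symm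
  have hLp : 0 < Nat.card L := Nat.card_pos
  have hHp : 0 < Nat.card H := Nat.card_pos
  have himg : Nat.card (H.map π) = Nat.card cj.range := Nat.eq_of_mul_eq_mul_left hLp (hHimg.symm.trans hHL)
  have hLidx : L.index = Nat.card Mb * Nat.card cj.range := by
    rw [Subgroup.index_eq_card, hGL, himg, mul_comm]
  have hHidx : H.index = Nat.card Mb := by
    refine Nat.eq_of_mul_eq_mul_left hHp ?_
    rw [Subgroup.card_mul_index, ← L.card_mul_index, hLidx, hHL]
    ring
  rw [hk', hHidx, hLidx, mul_pow, sq (Nat.card Mb), mul_assoc] at hkdvd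
  exact (Dvd.intro _ rfl).trans (Nat.dvd_of_mul_dvd_mul_left Nat.card_pos hkdvd)

/-- Berger's theorem. -/
theorem berger [Group.IsSolvable G] (χ : G → ℂ) (hχ : IsIrrCharacter G χ)
    (hqp : ∀ N : Subgroup G, N.Normal → ∃ (ϑ : N → ℂ) (e : ℕ),
      IsIrrCharacter N ϑ ∧ (fun n : N => χ n) = (e : ℂ) • ϑ)
    (K : Subgroup G) (hK : K ≠ ⊤) (ψ : K → ℂ) (hψ : IsCharacter K ψ) : indFun K ψ ≠ χ := by
  classical
  obtain ⟨H, hH, hKH⟩ := (eq_top_or_exists_le_coatom K).resolve_left hK
  letI := Fintype.ofFinite H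
  let e : K.subgroupOf H ≃* K := Subgroup.subgroupOfEquivOfLe hKH
  have hψ' : IsCharacter H (indFun (K.subgroupOf H) fun x => ψ (e x)) :=
    isCharacter_indFun _ (isCharacter_comp hψ e.toMonoidHom)
  intro h
  refine not_induced χ hχ hqp H hH _ hψ' ?_
  rw [← h]
  exact indFun_trans K H hKH ψ

end CfsgLib.Char.Berger
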